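import Groth.Agent.GrpSch.K982.EtClos
import Groth.Agent.TateLoc.K809.QuotFin
import Groth.Agent.AlgGrp.K404.Isotriv
import Groth.Agent.AlgGrp.K404.Desc
import Groth.Agent.AlgGrp.K408.BcField

/-!
# The coset lemma

`R` a normal domain with fraction field `K`, `f : G ⟶ Φ` a homomorphism of commutative finite group schemes over `R`,
`G` finite locally free, `Φ` finite étale, `H ⟶ G_K` a closed subgroup. If the kernel of `H ⟶ Φ_K` has a finite locally
free closure in `G`, then so does `H`.
-/

set_option autoImplicit false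
universe u

open CategoryTheory CategoryTheory.Limits AlgebraicGeometry MonoidalCategory
  CartesianMonoidalCategory MonObj GrpObj

namespace K982.Coset

open Groth.Agent.Pic13.H508.QuotModel Groth.Agent.Books.AffBridge FFClos

section gen

variable {S : Scheme.{u}}

theorem isCommMonObj_of_mono {C : Type*} [Category C] [CartesianMonoidalCategory C] [BraidedCategory C] {F G : C}
    [GrpObj F] [GrpObj G] [IsCommMonObj G] (i : F ⟶ G) [IsMonHom i] [Mono i] : IsCommMonObj F where
  mul_comm := by
    rw [← cancel_mono i, Category.assoc, IsMonHom.mul_hom, ← Category.assoc, ← BraidedCategory.braiding_naturality,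
      Category.assoc, IsCommMonObj.mul_comm]

theorem exists_cover {G Q T : Over S} (q : G ⟶ Q) [Flat q.left] [Surjective q.left] [QuasiCompact q.left]
    (z : T ⟶ Q) : ∃ (T' : Over S) (c : T' ⟶ T) (g : T' ⟶ G), Flat c.left ∧ Surjective c.left ∧
      QuasiCompact c.left ∧ c ≫ z = g ≫ q := by
  have h := (IsPullback.of_hasPullback z q).map (Over.forget S)
  exact ⟨pullback z q, pullback.fst z q, pullback.snd z q, MorphismProperty.of_isPullback h.flip ‹Flat q.left›,
    MorphismProperty.of_isPullback h.flip ‹Surjective q.left›,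
    MorphismProperty.of_isPullback h.flip ‹QuasiCompact q.left›, pullback.condition⟩

theorem mono_of_ker {L G Q P : Over S} [GrpObj G] [GrpObj Q] [GrpObj P] (l : L ⟶ G) (q : G ⟶ Q) [IsMonHom q]
    [Flat q.left] [Surjective q.left] [QuasiCompact q.left] (h : AlgGrp.IsKernel l q) (φ : G ⟶ P)
    (h' : AlgGrp.IsKernel l φ) (ψ : Q ⟶ P) [IsMonHom ψ] (hψ : q ≫ ψ = φ) : Mono ψ := by
  constructor
  intro T x y hxy
  obtain ⟨T', c, g, i1, i2, i3, hc⟩ := exists_cover q (x * y⁻¹)
  have e := K404.Desc.epi_of c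
  have h1 : g ≫ φ = 1 := by
    rw [← hψ, ← Category.assoc, ← hc, Category.assoc, MonObj.mul_comp, GrpObj.inv_comp, hxy, mul_inv_cancel,
      MonObj.comp_one]
  obtain ⟨k, hk⟩ := K404.Desc.exists_lift_ker h' g h1
  have h3 : g ≫ q = 1 := by
    rw [← hk]
    exact K404.Desc.ker_comp h k
  have h4 : c ≫ (x * y⁻¹) = c ≫ 1 := by rw [hc, h3, MonObj.comp_one]
  exact mul_inv_eq_one.1 ((cancel_epi c).1 h4)

/-- The square of quotients: if `w : H ⟶ Q` is the quotient of `H` by `H ∩ ker p` then `H = G ×_{G₁} Q`. -/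
theorem isPullback_quot {L H Q G G₁ : Over S} [GrpObj H] [GrpObj G] [GrpObj G₁] [GrpObj Q] (j : H ⟶ G) [IsMonHom j]
    [Mono j] (p : G ⟶ G₁) [IsMonHom p] (w : H ⟶ Q) [IsMonHom w] [Flat w.left] [Surjective w.left]
    [QuasiCompact w.left] (g : Q ⟶ G₁) (hg : w ≫ g = j ≫ p) (v : L ⟶ H) (hv : AlgGrp.IsKernel v w)
    (hk : AlgGrp.IsKernel (v ≫ j) p) : IsPullback j w p g := by
  refine K404.Isotriv.isPullback_of_points hg.symm (fun T x y hxy => ?_) (fun T a b hab _ => ?_)
  · obtain ⟨T', c, h, i1, i2, i3, hc⟩ := exists_cover w y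
    have e := K404.Desc.epi_of c
    have h1 : ((c ≫ x) * (h ≫ j)⁻¹) ≫ p = 1 := by
      rw [MonObj.mul_comp, GrpObj.inv_comp, Category.assoc, hxy, ← Category.assoc, hc, Category.assoc, hg,
        Category.assoc, mul_inv_cancel]
    obtain ⟨k, hk'⟩ := K404.Desc.exists_lift_ker hk _ h1
    have h2 : ((k ≫ v) * h) ≫ j = c ≫ x := by
      rw [MonObj.mul_comp, Category.assoc, hk', inv_mul_cancel_right]
    obtain ⟨l, hl⟩ := K404.Desc.exists_desc c ((k ≫ v) * h) (fun T'' a b hab => by
      rw [← cancel_mono j, Category.assoc, Category.assoc, h2, ← Category.assoc, hab, Category.assoc])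
    refine ⟨l, ?_, ?_⟩
    · rw [← cancel_epi c, ← Category.assoc, hl, h2]
    · rw [← cancel_epi c, ← Category.assoc, hl, MonObj.mul_comp, K404.Desc.ker_comp hv k, _root_.one_mul, hc]
  · exact (cancel_mono j).1 hab

end gen

variable {R : Type u} [CommRing R] [IsDomain R] [IsIntegrallyClosed R] (K : Type u) [Field K] [Algebra R K]
  [IsFractionRing R K]

/-- a quotient of a finite scheme over a field is finite -/
theorem isFinite_of_surj {H Q : Over (Spec (CommRingCat.of K))} [IsFinite H.hom] [IsAffine Q.left] (w : H ⟶ Q)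
    [Flat w.left] [Surjective w.left] : IsFinite Q.hom := by
  have hH : IsAffine H.left := isAffine_of_isAffineHom H.hom
  obtain ⟨D, _, _, ⟨g⟩⟩ := exists_alg K H
  obtain ⟨B, _, _, ⟨b⟩⟩ := exists_alg K Q
  obtain ⟨hD1, -⟩ := BcAff.module_of_chart (BcAff.isFinLocFree_field (N := H)) g.symm
  let x : SpecOver K D ⟶ SpecOver K B := g.hom ≫ w ≫ b.inv
  let ρ : B →ₐ[K] D := specPreimage K x
  have hx : specMap K ρ = x := specMap_specPreimage K x
  have i1 : IsIso g.hom.left := inferInstanceAs (IsIso ((Over.forget _).map g.hom))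
  have i2 : IsIso b.inv.left := inferInstanceAs (IsIso ((Over.forget _).map b.inv))
  have h0 : (specMap K ρ).left = g.hom.left ≫ w.left ≫ b.inv.left := by rw [hx]; rfl
  have h1 : Flat (specMap K ρ).left := by rw [h0]; infer_instance
  have h2 : Surjective (specMap K ρ).left := by rw [h0]; infer_instance
  have h3 : Function.Injective ρ :=
    ((Groth.Agent.Books.AffBridge2.flat_and_surjective_specMap_iff K ρ).1 ⟨h1, h2⟩).injective
  have h4 : Module.Finite K B := Module.Finite.of_injective ρ.toLinearMap h3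
  have h5 : Module.FinitePresentation K B := Module.finitePresentation_of_finite K B
  exact (BcAff.isFinLocFree_of_iso b.symm BcAff.isFinLocFree_specOver).1

omit [IsDomain R] [IsIntegrallyClosed R] [IsFractionRing R K] in
theorem isIntegral_of_surj {H Q : Over (Spec (CommRingCat.of R))} [IsFinite H.hom] [IsAffine Q.left] (w : H ⟶ Q)
    [Flat w.left] [Surjective w.left] : IsIntegralHom Q.hom := by
  have hH : IsAffine H.left := isAffine_of_isAffineHom H.hom
  obtain ⟨D, _, _, ⟨g⟩⟩ := exists_alg R H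
  obtain ⟨B, _, _, ⟨b⟩⟩ := exists_alg R Q
  have i1 : IsIso g.hom.left := inferInstanceAs (IsIso ((Over.forget _).map g.hom))
  have i2 : IsIso b.inv.left := inferInstanceAs (IsIso ((Over.forget _).map b.inv))
  have hD1 : Module.Finite R D := by
    have hw : g.hom.left ≫ H.hom = Spec.map (CommRingCat.ofHom (algebraMap R D)) := Over.w g.hom
    have h1 : IsFinite (Spec.map (CommRingCat.ofHom (algebraMap R D))) := by
      rw [← hw]
      exact MorphismProperty.comp_mem _ _ _ inferInstance inferInstance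
    rw [IsFinite.SpecMap_iff] at h1
    exact RingHom.finite_algebraMap.1 h1
  let x : SpecOver R D ⟶ SpecOver R B := g.hom ≫ w ≫ b.inv
  let ρ : B →ₐ[R] D := specPreimage R x
  have hx : specMap R ρ = x := specMap_specPreimage R x
  have h0 : (specMap R ρ).left = g.hom.left ≫ w.left ≫ b.inv.left := by rw [hx]; rfl
  have h1 : Flat (specMap R ρ).left := by rw [h0]; infer_instance
  have h2 : Surjective (specMap R ρ).left := by rw [h0]; infer_instance
  have h3 : Function.Injective ρ :=
    ((Groth.Agent.Books.AffBridge2.flat_and_surjective_specMap_iff R ρ).1 ⟨h1, h2⟩).injective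
  have h4 : Algebra.IsIntegral R B := ⟨fun y => (isIntegral_algHom_iff ρ h3).1 (Algebra.IsIntegral.isIntegral _)⟩
  have hw : b.inv.left ≫ Spec.map (CommRingCat.ofHom (algebraMap R B)) = Q.hom := Over.w b.inv
  have h5 : IsIntegralHom (Spec.map (CommRingCat.ofHom (algebraMap R B))) := by
    rw [IsIntegralHom.SpecMap_iff]
    exact algebraMap_isIntegral_iff.2 h4
  rw [← hw]
  have i3 : IsIntegralHom b.inv.left := inferInstance
  exact MorphismProperty.comp_mem @IsIntegralHom _ _ i3 h5

/-- **Coset lemma.** -/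
theorem hasFC_of_etale {G Φ : Over (Spec (CommRingCat.of R))} [GrpObj G] [IsCommMonObj G]
    (hG : Mor2.IsFinLocFree G.hom) [GrpObj Φ] [IsFinite Φ.hom] [Etale Φ.hom] (f : G ⟶ Φ) [IsMonHom f]
    {H₀ H : Over (Spec (CommRingCat.of K))} [GrpObj H₀] [GrpObj H] (v : H₀ ⟶ H) [IsMonHom v]
    (j : H ⟶ Red.bc (tt R K) G) [IsMonHom j] [IsClosedImmersion j.left]
    (hv : AlgGrp.IsKernel (Q := Red.bc (tt R K) Φ) v (j ≫ (Over.pullback (tt R K)).map f))
    (h0 : HasFC K (v ≫ j)) : HasFC K j := by
  obtain ⟨C₀, _, i₀, e₀, hi₀, hc₀, hf₀, he₀⟩ := h0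
  have hfl : Flat C₀.hom := hf₀.2.1
  have hGf : IsFinite G.hom := hG.1
  have hGK : IsFinite (Red.bc (tt R K) G).hom := inferInstanceAs (IsFinite (pullback.snd G.hom (tt R K)))
  have hHf : IsFinite H.hom := by
    rw [← Over.w j]
    exact MorphismProperty.comp_mem _ _ _ inferInstance inferInstance
  have hH₀f : IsFinite H₀.hom := by
    have h1 : IsFinite C₀.hom := hf₀.1
    have h2 : IsFinite (Red.bc (tt R K) C₀).hom := inferInstanceAs (IsFinite (pullback.snd C₀.hom (tt R K)))
    have h3 : IsIso e₀.inv.left := inferInstanceAs (IsIso ((Over.forget _).map e₀.inv))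
    rw [← Over.w e₀.inv]
    exact MorphismProperty.comp_mem _ _ _ inferInstance inferInstance
  have hjm : Mono j := (Over.forget _).mono_of_mono_map (inferInstanceAs (Mono j.left))
  have hi₀m : Mono i₀ := (Over.forget _).mono_of_mono_map (inferInstanceAs (Mono i₀.left))
  have hvm : Mono v := K404.Desc.mono_ker hv
  have hvj : v ≫ j ≫ (Over.pullback (tt R K)).map f = 1 := K404.Desc.ker_eq_one hv
  -- the quotient over `R`
  have h1 : i₀ ≫ f = 1 := by
    apply eq_of_map_eq K
    rw [Functor.map_comp, ← he₀, Category.assoc, Category.assoc, hvj, MonObj.comp_one]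
    exact (Functor.map_one _).symm
  obtain ⟨G₁, _, _, q, hq, hq1, hq2, hq3, hq4, -⟩ := K809.QuotFin.exists_quot i₀ hf₀ inferInstance
  have hq1' := hq1
  obtain ⟨q1, q2, q3⟩ := hq1'
  have hG₁ : IsAffine G₁.left := hq3 (isAffine_of_isAffineHom G.hom)
  have hG₁i : IsIntegralHom G₁.hom := isIntegral_of_surj q
  obtain ⟨f₁, hf₁, hqf⟩ := K404.Desc.exists_desc_hom i₀ q hq4 f h1
  have hqK := Groth.Agent.AlgGrp.K408.BcField.isKernel_bc (tt R K) hq4
  -- the quotient over `K`
  have hHc : IsCommMonObj H := isCommMonObj_of_mono j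
  obtain ⟨Q, _, _, w, hw, hw1, hw2, hw3, hw4, -⟩ :=
    K809.QuotFin.exists_quot v (BcAff.isFinLocFree_field (N := H₀)) inferInstance
  obtain ⟨w1, w2, w3⟩ := hw1
  have hQa : IsAffine Q.left := hw3 (isAffine_of_isAffineHom H.hom)
  have hQf : IsFinite Q.hom := isFinite_of_surj K w
  have hvq : (v ≫ j) ≫ (Over.pullback (tt R K)).map q = 1 := by
    have e1 : v ≫ j = e₀.inv ≫ (Over.pullback (tt R K)).map i₀ := by rw [← he₀, Iso.inv_hom_id_assoc]
    rw [e1, Category.assoc, K404.Desc.ker_eq_one hqK, MonObj.comp_one]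
  have hk : AlgGrp.IsKernel (Q := Red.bc (tt R K) G₁) (v ≫ j) ((Over.pullback (tt R K)).map q) := by
    rw [Groth.Agent.AlgGrp.K408.BcField.isKernel_iff]
    refine ⟨hvq, fun T g hg => ?_⟩
    obtain ⟨y, hy⟩ := K404.Desc.exists_lift_ker hqK g hg
    refine ⟨y ≫ e₀.hom, ?_, fun z hz => ?_⟩
    · change (y ≫ e₀.hom) ≫ v ≫ j = g
      rw [Category.assoc, he₀, hy]
    · have hz' : z ≫ v ≫ j = g := hz
      rw [← cancel_mono (v ≫ j), hz', Category.assoc, he₀, hy]
  obtain ⟨g₁, hg₁, hwg⟩ := K404.Desc.exists_desc_hom v w hw4 (j ≫ (Over.pullback (tt R K)).map q)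
    (by rw [← Category.assoc]; exact hvq)
  let r : Q ⟶ Red.bc (tt R K) Φ := g₁ ≫ (Over.pullback (tt R K)).map f₁
  have hr : IsMonHom r := inferInstance
  have hwr : w ≫ r = j ≫ (Over.pullback (tt R K)).map f := by
    change w ≫ g₁ ≫ (Over.pullback (tt R K)).map f₁ = _
    rw [reassoc_of% hwg, ← Functor.map_comp, hqf]
  have hrm : Mono r := mono_of_ker v w hw4 _ hv r hwr
  have hrc : IsClosedImmersion r.left := by
    rw [IsClosedImmersion.iff_isFinite_and_mono]
    refine ⟨?_, inferInstanceAs (Mono ((Over.forget _).map r))⟩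
    have h2 : IsFinite (r.left ≫ (Red.bc (tt R K) Φ).hom) := by
      rw [Over.w r]
      exact hQf
    have h3 : IsSeparated (Red.bc (tt R K) Φ).hom :=
      inferInstanceAs (IsSeparated (pullback.snd Φ.hom (tt R K)))
    exact IsFinite.of_comp r.left (Red.bc (tt R K) Φ).hom
  obtain ⟨E, _, _, i', θ, hE1, hE2, hi', hθ⟩ := EtClos.exists_spread K r
  obtain ⟨s, hs⟩ := EtClos.exists_ext K E (θ.hom ≫ g₁)
  have hEflat : Module.Flat R E := inferInstance
  have hEfp : Module.FinitePresentation R E := Module.FinitePresentation.of_finite_of_finitePresentation R E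
  have hEF : Mor2.IsFinLocFree (SpecOver R E).hom := BcAff.isFinLocFree_specOver
  obtain ⟨E1, E2, E3⟩ := hEF
  have hsf : s ≫ f₁ = i' := by
    apply eq_of_map_eq K
    rw [Functor.map_comp, hs, Category.assoc, ← hθ]
  have hsc : IsClosedImmersion s.left := by
    have h2 : IsClosedImmersion (s.left ≫ f₁.left) := by
      rw [← Over.comp_left, hsf]
      exact hi'
    exact IsClosedImmersion.of_comp s.left f₁.left
  have hpb : IsPullback (pullback.fst q s) (pullback.snd q s) q s := IsPullback.of_hasPullback q s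
  have hpb' := hpb.map (Over.forget _)
  have hfc : IsClosedImmersion (pullback.fst q s).left := MorphismProperty.of_isPullback hpb'.flip hsc
  have hCF : Mor2.IsFinLocFree (pullback q s).hom := by
    have c1 : IsFinite (pullback.snd q s).left := MorphismProperty.of_isPullback hpb' q1
    have c2 : Flat (pullback.snd q s).left := MorphismProperty.of_isPullback hpb' q2
    have c3 : LocallyOfFinitePresentation (pullback.snd q s).left := MorphismProperty.of_isPullback hpb' q3
    rw [← Over.w (pullback.snd q s)]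
    exact ⟨MorphismProperty.comp_mem _ _ _ c1 E1, MorphismProperty.comp_mem _ _ _ c2 E2,
      MorphismProperty.comp_mem _ _ _ c3 E3⟩
  have hpbK := hpb.map (Over.pullback (tt R K))
  have hH1 : IsPullback j w ((Over.pullback (tt R K)).map q) g₁ :=
    isPullback_quot j ((Over.pullback (tt R K)).map q) w g₁ hwg v hw4 hk
  have hH2 : IsPullback j (w ≫ θ.inv) ((Over.pullback (tt R K)).map q) ((Over.pullback (tt R K)).map s) :=
    IsPullback.of_iso hH1 (Iso.refl _) (Iso.refl _) θ.symm (Iso.refl _) (by simp) (by simp) (by simp)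
      (by rw [hs]; simp)
  exact hasFC_of K (pullback.fst q s) hCF j (hpbK.isoIsPullback _ _ hH2) (hpbK.isoIsPullback_hom_fst _ _ hH2)

end K982.Coset
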