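import Groth.Agent.GrpSch.K982.ClosMult
import Groth.Agent.GrpSch.K982.Coset
import Groth.Agent.GrpSch.K270.MB.Shape
import Groth.Agent.Flat2F.FlatComp
import Groth.Agent.Books.AntiAffine
import Mathlib.AlgebraicGeometry.Noetherian

/-!
# Nodes `NodeClosure` and `NodeCoset` of S14306
-/

set_option autoImplicit false
universe u

open CategoryTheory CategoryTheory.Limits AlgebraicGeometry MonoidalCategory
  CartesianMonoidalCategory MonObj GrpObj

namespace K982.Nodes

open K270.MB FFClos Groth.Agent.Sga3B.DSPts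

theorem dom_of_flat {S : Scheme.{u}} {X Y : Over S} (c : X ⟶ Y) [Flat c.left] [Surjective c.left]
    [QuasiCompact c.left] : IsSchemeTheoreticallyDominant c.left := by
  have hep : EffectiveEpi c.left := inferInstance
  have h0 : c.left.toImage ≫ c.left.imageι = c.left := Scheme.Hom.toImage_imageι _
  have hm : Mono c.left.imageι := inferInstance
  let l : Y.left ⟶ c.left.image := EffectiveEpi.desc c.left c.left.toImage (fun g₁ g₂ h => by
    rw [← cancel_mono c.left.imageι, Category.assoc, Category.assoc, h0, h])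
  have hl : c.left ≫ l = c.left.toImage := EffectiveEpi.fac _ _ _
  have h1 : l ≫ c.left.imageι = 𝟙 _ := by
    rw [← cancel_epi c.left, ← Category.assoc, hl, h0, Category.comp_id]
  have h2 : IsIso c.left.imageι := by
    refine ⟨l, ?_, h1⟩
    rw [← cancel_mono c.left.imageι, Category.assoc, h1, Category.comp_id, Category.id_comp]
  have h3 : IsSchemeTheoreticallyDominant c.left.toImage := Groth.Agent.Sga3C.SchemImage.dominant_toImage _
  rw [← h0]
  infer_instance

section flatExt

variable {R : Type u} [CommRing R] [IsDomain R]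

theorem flatExt_of_hasFC {G : Over (Spec (CommRingCat.of R))} [GrpObj G]
    {H : Over (Spec (CommRingCat.of (FractionRing R)))} (j : H ⟶ Red.bc (gen R) G)
    (h : HasFC (FractionRing R) j) : FlatExt R G (fun x => Fac j x) := by
  obtain ⟨C, _, i, e, hi, hc, hf, he⟩ := h
  refine ⟨C, inferInstance, i, ⟨hi, hc⟩, hf.2.1, fun x => ⟨?_, ?_⟩⟩
  · rintro ⟨y, hy⟩
    refine ⟨y ≫ e.hom, ?_⟩
    rw [Category.assoc]
    exact (congrArg (fun z => y ≫ z) he).trans hy
  · rintro ⟨y, hy⟩
    refine ⟨y ≫ e.inv, ?_⟩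
    change (y ≫ e.inv) ≫ (Over.pullback (gen R)).map i = x
    have he' : e.inv ≫ (Over.pullback (gen R)).map i = j := by
      rw [Iso.inv_comp_eq]
      exact he.symm
    rw [Category.assoc, he', hy]

end flatExt

section mu

variable {S : Scheme.{u}} {N r : ℕ}

/-- the coordinates of a point of `DS S (ZMod N ^ r)` -/
noncomputable def w {T : Over S} (z : T ⟶ Red.DS S (Fin r → ZMod N)) (j : Fin r) : U T :=
  (dsChar z).toHomUnits (Multiplicative.ofAdd (Pi.single j 1))

theorem w_comp {T T' : Over S} (g : T' ⟶ T) (z : T ⟶ Red.DS S (Fin r → ZMod N)) (j : Fin r) :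
    w (g ≫ z) j = ures g (w z j) := by
  apply Units.ext
  change dsChar (g ≫ z) _ = g.left.appTop.hom (dsChar z _)
  rw [dsChar_comp]
  rfl

theorem w_mul {T : Over S} (x y : T ⟶ Red.DS S (Fin r → ZMod N)) (j : Fin r) :
    w (x * y) j = w x j * w y j := by
  apply Units.ext
  change dsChar (x * y) _ = dsChar x _ * dsChar y _
  rw [show dsChar (x * y) = dsChar x * dsChar y from map_mul _ _ _]
  rfl

theorem w_pow {T : Over S} (x : T ⟶ Red.DS S (Fin r → ZMod N)) (j : Fin r) : w x j ^ N = 1 := by
  rw [w, ← map_pow, ← ofAdd_nsmul]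
  have h : N • (Pi.single j 1 : Fin r → ZMod N) = 0 := by
    ext i
    simp
  rw [h, ofAdd_zero, map_one]

theorem exists_point {T : Over S} (v : Fin r → U T) (hv : ∀ j, v j ^ N = 1) :
    ∃ z : T ⟶ Red.DS S (Fin r → ZMod N), ∀ j, w z j = v j := by
  classical
  let c : ∀ j, ZMod N →+ Additive (U T) := fun j =>
    ZMod.lift N ⟨zmultiplesHom _ (Additive.ofMul (v j)), by
      rw [zmultiplesHom_apply, natCast_zsmul, ← ofMul_pow, hv, ofMul_one]⟩
  have hc : ∀ j, c j 1 = Additive.ofMul (v j) := fun j => by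
    have := ZMod.lift_coe N ⟨zmultiplesHom _ (Additive.ofMul (v j)), by
      rw [zmultiplesHom_apply, natCast_zsmul, ← ofMul_pow, hv, ofMul_one]⟩ 1
    simpa using this
  let C : (Fin r → ZMod N) →+ Additive (U T) := ∑ j, (c j).comp (Pi.evalAddMonoidHom _ j)
  have hC : ∀ j, C (Pi.single j 1) = Additive.ofMul (v j) := by
    intro j
    rw [AddMonoidHom.finsetSum_apply, Finset.sum_eq_single j]
    · simp [hc]
    · intro b _ hb
      simp [Pi.single_eq_of_ne hb]
    · simp
  let D : Multiplicative (Fin r → ZMod N) →* Γ(T.left, ⊤) :=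
    (Units.coeHom _).comp (AddMonoidHom.toMultiplicativeLeft C)
  refine ⟨dsEquiv T _ D, fun j => ?_⟩
  apply Units.ext
  change dsChar (dsEquiv T _ D) _ = (v j : Γ(T.left, ⊤))
  have h1 : dsChar (dsEquiv T (Fin r → ZMod N) D) = D := (dsEquiv T _).symm_apply_apply D
  rw [h1]
  change ((C (Pi.single j 1)).toMul : Γ(T.left, ⊤)) = _
  rw [hC]
  rfl

/-- `μ_N ^ r` and `DS (ZMod N ^ r)` -/
theorem exists_ds {M : Over S} [GrpObj M] {χ : Fin r → U M} (h : IsMu N r M χ) :
    ∃ (a : Red.DS S (Fin r → ZMod N) ⟶ M) (s : M ⟶ Red.DS S (Fin r → ZMod N)), IsMonHom a ∧ s ≫ a = 𝟙 M := by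
  obtain ⟨a, ha, -⟩ := h.bij (w (𝟙 (Red.DS S (Fin r → ZMod N)))) (w_pow _)
  obtain ⟨s, hs⟩ := exists_point (S := S) χ h.pow
  have hz : ∀ {T : Over S} (z : T ⟶ Red.DS S (Fin r → ZMod N)) (j : Fin r), ures (z ≫ a) (χ j) = w z j := by
    intro T z j
    rw [ures_comp, ha, ← w_comp, Category.comp_id]
  have huniq : ∀ {T : Over S} (x y : T ⟶ M), (∀ j, ures x (χ j) = ures y (χ j)) → x = y := by
    intro T x y hxy
    obtain ⟨t, -, ht⟩ := h.bij (fun j => ures y (χ j)) (fun j => by rw [← map_pow, h.pow, map_one])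
    exact (ht x hxy).trans (ht y fun _ => rfl).symm
  refine ⟨a, s, ?_, ?_⟩
  · apply Groth.Agent.Sga3B.Pts.isMonHom_of_universal
    apply huniq
    intro j
    rw [hz, w_mul, h.mul, hz, hz]
  · apply huniq
    intro j
    rw [hz, hs, ures_id]

end mu

theorem nodeClosure : NodeClosure := by
  intro R _ _ _ _ _ P M _ _ _ i hPf hPfl hi N r hN χ hχ H _ j hj hgen
  have hPF : Mor2.IsFinLocFree P.hom := ⟨hPf, hPfl, LocallyOfFinitePresentation.iff_locallyOfFiniteType.2 inferInstance⟩
  have hN' : NeZero N := ⟨hN.ne'⟩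
  have him := hi.mon
  have hjm := hj.mon
  have hjc := hj.closed
  obtain ⟨a, s, ha, hsa⟩ := exists_ds hχ
  obtain ⟨T', g, u, g1, g2, g3, b, hb⟩ := hgen _ (𝟙 _)
  rw [Category.comp_id] at hb
  have hdom := dom_of_flat g
  apply flatExt_of_hasFC
  refine ClosMult.hasFC_of_gen (FractionRing R) hPF (a ≫ i) j g b (u ≫ (Over.pullback (gen R)).map s) ?_
  have h1 : (Over.pullback (gen R)).map s ≫ (Over.pullback (gen R)).map (a ≫ i) = (Over.pullback (gen R)).map i := by
    rw [← Functor.map_comp, reassoc_of% hsa]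
  rw [hb]
  change g = g * (u ≫ (Over.pullback (gen R)).map i)⁻¹ *
    ((u ≫ (Over.pullback (gen R)).map s) ≫ (Over.pullback (gen R)).map (a ≫ i))
  rw [Category.assoc, h1, inv_mul_cancel_right]

section coset

/-- a quotient of a finite scheme over a Noetherian ring is finite -/
theorem isFinite_of_surj {R : Type u} [CommRing R] [IsNoetherianRing R] {H Q : Over (Spec (CommRingCat.of R))}
    [IsFinite H.hom] [IsAffine Q.left] (w : H ⟶ Q) [Flat w.left] [Surjective w.left] : IsFinite Q.hom := by
  have hH : IsAffine H.left := isAffine_of_isAffineHom H.hom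
  obtain ⟨D, _, _, ⟨g⟩⟩ := Groth.Agent.Pic13.H508.QuotModel.exists_alg R H
  obtain ⟨B, _, _, ⟨b⟩⟩ := Groth.Agent.Pic13.H508.QuotModel.exists_alg R Q
  have i1 : IsIso g.hom.left := inferInstanceAs (IsIso ((Over.forget _).map g.hom))
  have i2 : IsIso b.inv.left := inferInstanceAs (IsIso ((Over.forget _).map b.inv))
  have hD1 : Module.Finite R D := by
    have hw : g.hom.left ≫ H.hom = Spec.map (CommRingCat.ofHom (algebraMap R D)) := Over.w g.hom
    have h1 : IsFinite (Spec.map (CommRingCat.ofHom (algebraMap R D))) := by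
      rw [← hw]
      exact MorphismProperty.comp_mem _ _ _ inferInstance inferInstance
    rw [IsFinite.SpecMap_iff] at h1
    exact RingHom.finite_algebraMap.1 h1
  let x : Groth.Agent.Books.AffBridge.SpecOver R D ⟶ Groth.Agent.Books.AffBridge.SpecOver R B := g.hom ≫ w ≫ b.inv
  let ρ : B →ₐ[R] D := Groth.Agent.Books.AffBridge.specPreimage R x
  have hx : Groth.Agent.Books.AffBridge.specMap R ρ = x := Groth.Agent.Books.AffBridge.specMap_specPreimage R x
  have h0 : (Groth.Agent.Books.AffBridge.specMap R ρ).left = g.hom.left ≫ w.left ≫ b.inv.left := by rw [hx]; rfl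
  have h1 : Flat (Groth.Agent.Books.AffBridge.specMap R ρ).left := by rw [h0]; infer_instance
  have h2 : Surjective (Groth.Agent.Books.AffBridge.specMap R ρ).left := by rw [h0]; infer_instance
  have h3 : Function.Injective ρ :=
    ((Groth.Agent.Books.AffBridge2.flat_and_surjective_specMap_iff R ρ).1 ⟨h1, h2⟩).injective
  have h4 : Module.Finite R B := Module.Finite.of_injective ρ.toLinearMap h3
  have hw : b.inv.left ≫ Spec.map (CommRingCat.ofHom (algebraMap R B)) = Q.hom := Over.w b.inv
  have h5 : IsFinite (Spec.map (CommRingCat.ofHom (algebraMap R B))) := by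
    rw [IsFinite.SpecMap_iff]
    exact RingHom.finite_algebraMap.2 h4
  rw [← hw]
  exact MorphismProperty.comp_mem @IsFinite _ _ inferInstance h5

set_option backward.isDefEq.respectTransparency false in
/-- A flat group scheme locally of finite presentation whose unit section is an open immersion is étale. -/
theorem etale_of_unit {S : Scheme.{u}} (X : Over S) [GrpObj X] [Flat X.hom] [LocallyOfFinitePresentation X.hom]
    (h : IsOpenImmersion (η[X] : 𝟙_ (Over S) ⟶ X).left) : Etale X.hom := by
  have h1 := (Groth.Agent.Books.AntiAffine.isPullback_diag X).map (Over.forget _)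
  have h2 : IsOpenImmersion ((Over.forget _).map (lift (𝟙 X) (𝟙 X))) :=
    MorphismProperty.of_isPullback (P := @IsOpenImmersion) h1.flip (by dsimp; exact h)
  have h3 : (Over.forget _).map (lift (𝟙 X) (𝟙 X)) = pullback.diagonal X.hom := by
    apply pullback.hom_ext <;> simp
  have h4 : IsOpenImmersion (pullback.diagonal X.hom) := by
    rw [← h3]
    exact h2
  have h5 : FormallyUnramified X.hom := inferInstance
  exact Etale.of_formallyUnramified_of_flat X.hom

/-- intersection of two subgroups -/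
theorem exists_inter {S : Scheme.{u}} {H G₀ G : Over S} [GrpObj H] [GrpObj G₀] [GrpObj G] (j : H ⟶ G) [IsMonHom j]
    (i : G₀ ⟶ G) [IsMonHom i] [Mono i] : ∃ _ : GrpObj (pullback j i), IsMonHom (pullback.fst j i) := by
  have hw := pullback.condition (f := j) (g := i)
  refine Groth.Agent.Sga3C.SubGrp.exists_grpObj_of_mono (pullback.fst j i) ?_ ?_ ?_
  · refine ⟨pullback.lift ((fst _ _ ≫ pullback.fst j i) * (snd _ _ ≫ pullback.fst j i))
      ((fst _ _ ≫ pullback.snd j i) * (snd _ _ ≫ pullback.snd j i)) ?_, ?_⟩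
    · rw [MonObj.mul_comp, MonObj.mul_comp, Category.assoc, Category.assoc, Category.assoc, Category.assoc, hw]
    · rw [pullback.lift_fst, Hom.mul_def]
      congr 1
  · refine ⟨pullback.lift 1 1 ?_, ?_⟩
    · rw [MonObj.one_comp, MonObj.one_comp]
    · rw [pullback.lift_fst]
      exact (MonObj.one_eq_one (M := H)).symm
  · refine ⟨pullback.lift (pullback.fst j i)⁻¹ (pullback.snd j i)⁻¹ ?_, ?_⟩
    · rw [GrpObj.inv_comp, GrpObj.inv_comp, hw]
    · rw [pullback.lift_fst]
      exact Hom.inv_def _

theorem coset_core {R : Type u} [CommRing R] [IsDomain R] [IsNoetherianRing R] [IsIntegrallyClosed R]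
    {G G₀ : Over (Spec (CommRingCat.of R))} [GrpObj G] [IsCommMonObj G] [GrpObj G₀] (i : G₀ ⟶ G) [IsMonHom i]
    [IsClosedImmersion i.left] [IsOpenImmersion i.left] [IsFinite G.hom] [Flat G.hom]
    {H : Over (Spec (CommRingCat.of (FractionRing R)))} [GrpObj H] (j : H ⟶ Red.bc (gen R) G) [IsMonHom j]
    [IsClosedImmersion j.left]
    (h : FlatExt R G₀ (fun x => Fac j (x ≫ (Over.pullback (gen R)).map i))) :
    HasFC (FractionRing R) j := by
  have hG : Mor2.IsFinLocFree G.hom :=
    ⟨inferInstance, inferInstance, LocallyOfFinitePresentation.iff_locallyOfFiniteType.2 inferInstance⟩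
  have him : Mono i := (Over.forget _).mono_of_mono_map (inferInstanceAs (Mono i.left))
  have hG₀1 : IsFinite G₀.hom := by
    rw [← Over.w i]
    exact MorphismProperty.comp_mem _ _ _ inferInstance inferInstance
  have hG₀2 : Flat G₀.hom := by
    rw [← Over.w i]
    exact MorphismProperty.comp_mem _ _ _ inferInstance inferInstance
  have hG₀ : Mor2.IsFinLocFree G₀.hom :=
    ⟨hG₀1, hG₀2, LocallyOfFinitePresentation.iff_locallyOfFiniteType.2 inferInstance⟩
  -- the étale quotient
  obtain ⟨Φ, _, _, q, hq, hq1, hq2, hq3, hq4, -⟩ := K809.QuotFin.exists_quot i hG₀ inferInstance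
  obtain ⟨q1, q2, q3⟩ := hq1
  have hΦa : IsAffine Φ.left := hq3 (isAffine_of_isAffineHom G.hom)
  have hΦf : IsFinite Φ.hom := isFinite_of_surj q
  have hΦl : Flat Φ.hom := by
    have h1 : Flat (q.left ≫ Φ.hom) := by rw [Over.w]; infer_instance
    exact Groth.Agent.Flat2F.FlatComp.flat_of_flat_comp_of_flat_surjective q.left Φ.hom
  have hΦp : LocallyOfFinitePresentation Φ.hom := LocallyOfFinitePresentation.iff_locallyOfFiniteType.2 inferInstance
  have hunit : IsOpenImmersion (η[Φ] : 𝟙_ (Over (Spec (CommRingCat.of R))) ⟶ Φ).left := by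
    have hk := hq4.map (Over.forget _)
    exact MorphismProperty.of_isPullback_of_descendsAlong (P := @IsOpenImmersion)
      (Q := @Surjective ⊓ @Flat ⊓ @QuasiCompact) hk ⟨⟨hq2, q2⟩, inferInstanceAs (QuasiCompact q.left)⟩
      (inferInstanceAs (IsOpenImmersion i.left))
  have hΦe : Etale Φ.hom := etale_of_unit Φ hunit
  -- the intersection
  obtain ⟨gH₀, hv⟩ := exists_inter j ((Over.pullback (gen R)).map i)
  have hqK := Groth.Agent.AlgGrp.K408.BcField.isKernel_bc (gen R) hq4
  have himK : Mono ((Over.pullback (gen R)).map i) := inferInstance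
  have hjm : Mono j := (Over.forget _).mono_of_mono_map (inferInstanceAs (Mono j.left))
  have hw := pullback.condition (f := j) (g := (Over.pullback (gen R)).map i)
  have hker : AlgGrp.IsKernel (Q := Red.bc (gen R) Φ) (pullback.fst j ((Over.pullback (gen R)).map i))
      (j ≫ (Over.pullback (gen R)).map q) := by
    rw [Groth.Agent.AlgGrp.K408.BcField.isKernel_iff]
    refine ⟨?_, fun T g hg => ?_⟩
    · rw [reassoc_of% hw, K404.Desc.ker_eq_one hqK, MonObj.comp_one]
    · obtain ⟨y, hy⟩ := K404.Desc.exists_lift_ker hqK (g ≫ j) (by rw [Category.assoc]; exact hg)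
      refine ⟨pullback.lift g y hy.symm, pullback.lift_fst _ _ _, fun z hz => ?_⟩
      apply pullback.hom_ext
      · exact hz.trans (pullback.lift_fst _ _ _).symm
      · rw [pullback.lift_snd, ← cancel_mono ((Over.pullback (gen R)).map i), hy, Category.assoc, ← hw,
          reassoc_of% hz]
  refine Coset.hasFC_of_etale (FractionRing R) hG q (pullback.fst j ((Over.pullback (gen R)).map i)) j hker ?_
  -- the flat closure of the intersection
  obtain ⟨C, _, iC, hiC, hCf, hfac⟩ := h
  have hiCm := hiC.mon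
  have hiCc := hiC.closed
  have hC1 : IsFinite C.hom := by
    rw [← Over.w iC]
    exact MorphismProperty.comp_mem _ _ _ inferInstance inferInstance
  have hCF : Mor2.IsFinLocFree C.hom :=
    ⟨hC1, hCf, LocallyOfFinitePresentation.iff_locallyOfFiniteType.2 inferInstance⟩
  obtain ⟨y, hy⟩ := (hfac ((Over.pullback (gen R)).map iC)).1 ⟨𝟙 _, Category.id_comp _⟩
  obtain ⟨z, hz⟩ := (hfac (pullback.snd j ((Over.pullback (gen R)).map i))).2 ⟨pullback.fst _ _, hw⟩
  let u : Red.bc (gen R) C ⟶ pullback j ((Over.pullback (gen R)).map i) :=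
    pullback.lift y ((Over.pullback (gen R)).map iC) hy
  have hu1 : u ≫ pullback.fst _ _ = y := pullback.lift_fst _ _ _
  have hu2 : u ≫ pullback.snd _ _ = (Over.pullback (gen R)).map iC := pullback.lift_snd _ _ _
  have hiCM : Mono iC := (Over.forget _).mono_of_mono_map (inferInstanceAs (Mono iC.left))
  have hiCK : Mono ((Over.pullback (gen R)).map iC) := inferInstance
  have hsm : Mono (pullback.snd j ((Over.pullback (gen R)).map i)) := inferInstance
  have hcl : IsClosedImmersion (iC ≫ i).left := by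
    rw [Over.comp_left]
    infer_instance
  refine ⟨C, inferInstance, iC ≫ i, ⟨u, z, ?_, ?_⟩, inferInstance, hcl, hCF, ?_⟩
  · rw [← cancel_mono ((Over.pullback (gen R)).map iC), Category.assoc, hz, hu2, Category.id_comp]
  · rw [← cancel_mono (pullback.snd j ((Over.pullback (gen R)).map i)), Category.assoc, hu2, hz, Category.id_comp]
  · change u ≫ pullback.fst j ((Over.pullback (gen R)).map i) ≫ j = (Over.pullback (gen R)).map (iC ≫ i)
    rw [← Category.assoc, hu1, Functor.map_comp]
    exact hy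

theorem nodeCoset : NodeCoset := by
  intro R _ _ _ _ _ _ G G₀ _ _ _ i hGf hGl hi hio H _ j hj h
  have h1 := hi.mon
  have h2 := hi.closed
  have h3 := hj.mon
  have h4 := hj.closed
  exact flatExt_of_hasFC j (coset_core i j h)

end coset

end K982.Nodes
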