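import Groth.Agent.Sga3B.BcSpec892
import Groth.Agent.Pic13.H508.QuotModel
import Groth.Prelude.Def_Mor2
import Mathlib.AlgebraicGeometry.Morphisms.Finite
import Mathlib.AlgebraicGeometry.Morphisms.FlatDescent
import Groth.Agent.Neron.K491.Ext
import Groth.Agent.Sga3C.SchemImage
import Groth.Agent.Sga3C.SubGrp
import Groth.Prelude.Def_Red

/-!
# Base change of affine group schemes: complements
-/

set_option autoImplicit false
universe u v w t

section
open CategoryTheory CategoryTheory.Limits AlgebraicGeometry MonoidalCategory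
  CartesianMonoidalCategory MonObj GrpObj TensorProduct

namespace K982.BcAff

open Groth.Agent.Pic13.H508.QuotModel Groth.Agent.Books.AffBridge Groth.Agent.Sga3B.BcSpec892
  Groth.Agent.Sga3B.PtData

variable (R K : Type u) [CommRing R] [CommRing K] [Algebra R K]

theorem β_inv_eq (A : Type u) [CommRing A] [HopfAlgebra R A] : (β R K A).inv = toBc R K A := by
  ext1
  apply pullback.hom_ext
  · rw [β_inv_left_fst]
    symm
    exact Groth.Agent.Sga3B.DSPts.bcEquiv_fst _ _ _ _
  · exact (Over.w (β R K A).inv).trans (Over.w (toBc R K A)).symm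

theorem isMonHom_β_inv (A : Type u) [CommRing A] [HopfAlgebra R A] : IsMonHom (β R K A).inv := by
  rw [β_inv_eq]
  infer_instance

theorem isMonHom_β_hom (A : Type u) [CommRing A] [HopfAlgebra R A] : IsMonHom (β R K A).hom := by
  have : IsMonHom (β R K A).symm.hom := isMonHom_β_inv R K A
  exact inferInstanceAs (IsMonHom (β R K A).symm.inv)

variable {R}

/-- coordinate ring of a finite locally free scheme over an affine base -/
theorem module_of_chart {N : Over (Spec (CommRingCat.of R))} (hN : Mor2.IsFinLocFree N.hom)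
    {A : Type u} [CommRing A] [Algebra R A] (e : N ≅ SpecOver R A) :
    Module.Finite R A ∧ Module.Projective R A := by
  obtain ⟨i1, i2, i3⟩ := hN
  have hw : e.inv.left ≫ N.hom = Spec.map (CommRingCat.ofHom (algebraMap R A)) := Over.w e.inv
  have : IsIso e.inv.left := inferInstanceAs (IsIso ((Over.forget _).map e.inv))
  have h1 : IsFinite (Spec.map (CommRingCat.ofHom (algebraMap R A))) := by
    rw [← hw]
    exact MorphismProperty.comp_mem _ _ _ inferInstance inferInstance
  have h2 : Flat (Spec.map (CommRingCat.ofHom (algebraMap R A))) := by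
    rw [← hw]
    exact MorphismProperty.comp_mem _ _ _ inferInstance inferInstance
  have h3 : LocallyOfFinitePresentation (Spec.map (CommRingCat.ofHom (algebraMap R A))) := by
    rw [← hw]
    exact MorphismProperty.comp_mem _ _ _ inferInstance inferInstance
  rw [IsFinite.SpecMap_iff] at h1
  rw [HasRingHomProperty.Spec_iff (P := @Flat)] at h2
  rw [HasRingHomProperty.Spec_iff (P := @LocallyOfFinitePresentation)] at h3
  have h4 : Module.Finite R A := RingHom.finite_algebraMap.1 h1
  have h5 : Module.Flat R A := RingHom.flat_algebraMap_iff.1 h2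
  have h6 : Algebra.FinitePresentation R A := RingHom.finitePresentation_algebraMap.1 h3
  have h7 : Module.FinitePresentation R A := Module.FinitePresentation.of_finite_of_finitePresentation R A
  exact ⟨h4, Module.Flat.projective_of_finitePresentation⟩

theorem isFinLocFree_specOver {A : Type u} [CommRing A] [Algebra R A] [Module.Finite R A] [Module.Flat R A]
    [Module.FinitePresentation R A] : Mor2.IsFinLocFree (SpecOver R A).hom := by
  refine ⟨?_, ?_, ?_⟩
  · change IsFinite (Spec.map (CommRingCat.ofHom (algebraMap R A)))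
    rw [IsFinite.SpecMap_iff]
    exact RingHom.finite_algebraMap.2 inferInstance
  · change Flat (Spec.map (CommRingCat.ofHom (algebraMap R A)))
    rw [HasRingHomProperty.Spec_iff (P := @Flat)]
    exact RingHom.flat_algebraMap_iff.2 inferInstance
  · change LocallyOfFinitePresentation (Spec.map (CommRingCat.ofHom (algebraMap R A)))
    rw [HasRingHomProperty.Spec_iff (P := @LocallyOfFinitePresentation)]
    exact RingHom.finitePresentation_algebraMap.2 (Algebra.FinitePresentation.of_finitePresentation R A)

theorem isFinLocFree_of_iso {S : Scheme.{u}} {N N' : Over S} (e : N ≅ N') (h : Mor2.IsFinLocFree N'.hom) :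
    Mor2.IsFinLocFree N.hom := by
  obtain ⟨i1, i2, i3⟩ := h
  have : IsIso e.hom.left := inferInstanceAs (IsIso ((Over.forget _).map e.hom))
  rw [← Over.w e.hom]
  exact ⟨MorphismProperty.comp_mem _ _ _ inferInstance i1, MorphismProperty.comp_mem _ _ _ inferInstance i2,
    MorphismProperty.comp_mem _ _ _ inferInstance i3⟩

/-- a finite scheme over a field is finite locally free -/
theorem isFinLocFree_field {k : Type u} [Field k] {N : Over (Spec (CommRingCat.of k))} [IsFinite N.hom] :
    Mor2.IsFinLocFree N.hom := by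
  have : IsAffine N.left := isAffine_of_isAffineHom N.hom
  obtain ⟨A, _, _, ⟨e⟩⟩ := exists_alg k N
  have hw : e.hom.left ≫ N.hom = Spec.map (CommRingCat.ofHom (algebraMap k A)) := Over.w e.hom
  have : IsIso e.hom.left := inferInstanceAs (IsIso ((Over.forget _).map e.hom))
  have h1 : IsFinite (Spec.map (CommRingCat.ofHom (algebraMap k A))) := by
    rw [← hw]
    exact MorphismProperty.comp_mem _ _ _ inferInstance inferInstance
  rw [IsFinite.SpecMap_iff] at h1
  have h4 : Module.Finite k A := RingHom.finite_algebraMap.1 h1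
  have h5 : Module.FinitePresentation k A := Module.finitePresentation_of_finite k A
  exact isFinLocFree_of_iso e.symm isFinLocFree_specOver

end K982.BcAff

end

/-!
# Flat closures of subgroups of the generic fibre

`R` a domain with fraction field `K`.

* `eq_of_map_eq`: morphisms from a flat scheme to a separated scheme are determined by their generic fibres;
* `exists_lift_of_map`: factorization through a closed subscheme can be tested on the generic fibre;
* `exists_grpObj`: a flat closed subscheme whose generic fibre is a subgroup is a subgroup;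
* `HasFC`: a closed subgroup of the generic fibre has a finite locally free closure.
-/

section
open CategoryTheory CategoryTheory.Limits AlgebraicGeometry MonoidalCategory
  CartesianMonoidalCategory MonObj GrpObj

namespace K982.FFClos

open Groth.Agent.Pic13.H508.QuotModel (tt)
open Groth.Agent.Sga3C.SchemImage

variable (R K : Type u) [CommRing R] [IsDomain R] [Field K] [Algebra R K] [IsFractionRing R K]

omit [IsDomain R] in
theorem flat_tt : Flat (tt R K) := by
  rw [HasRingHomProperty.Spec_iff (P := @Flat)]
  change (algebraMap R K).Flat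
  rw [RingHom.flat_algebraMap_iff]
  exact IsLocalization.flat _ (nonZeroDivisors R)

theorem dom_tt : IsSchemeTheoreticallyDominant (tt R K) := by
  have : IsDominant (tt R K) := by
    constructor
    change DenseRange (PrimeSpectrum.comap (algebraMap R K))
    rw [PrimeSpectrum.denseRange_comap_iff_ker_le_nilRadical,
      (RingHom.injective_iff_ker_eq_bot _).mp (IsFractionRing.injective R K)]
    exact bot_le
  exact .of_isDominant _

/-- the projection from the generic fibre -/
noncomputable abbrev pr (T : Over (Spec (CommRingCat.of R))) : (Red.bc (tt R K) T).left ⟶ T.left :=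
  pullback.fst T.hom (tt R K)

theorem dom_pr (T : Over (Spec (CommRingCat.of R))) [Flat T.hom] :
    IsSchemeTheoreticallyDominant (pr R K T) := by
  have := dom_tt R K
  exact .of_isPullback (IsPullback.of_hasPullback T.hom (tt R K)).flip

omit [IsDomain R] [IsFractionRing R K] in
theorem map_pr {T Y : Over (Spec (CommRingCat.of R))} (a : T ⟶ Y) :
    ((Over.pullback (tt R K)).map a).left ≫ pr R K Y = pr R K T ≫ a.left :=
  pullback.lift_fst _ _ _

variable {R}

theorem eq_of_map_eq {T Y : Over (Spec (CommRingCat.of R))} [Flat T.hom] [IsSeparated Y.hom] {a b : T ⟶ Y}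
    (h : (Over.pullback (tt R K)).map a = (Over.pullback (tt R K)).map b) : a = b := by
  have := dom_pr R K T
  ext1
  refine K491.Ext.eq_of_comp_eq T.hom Y.hom (pr R K T) a.left b.left (Over.w a) (Over.w b) ?_
  rw [← map_pr, ← map_pr, h]

theorem exists_lift_of_map {T C G : Over (Spec (CommRingCat.of R))} [Flat T.hom] (i : C ⟶ G)
    [IsClosedImmersion i.left] (t : T ⟶ G) (l : Red.bc (tt R K) T ⟶ Red.bc (tt R K) C)
    (h : l ≫ (Over.pullback (tt R K)).map i = (Over.pullback (tt R K)).map t) : ∃ s : T ⟶ C, s ≫ i = t := by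
  have := dom_pr R K T
  obtain ⟨s, hs⟩ := exists_lift (pr R K T) t.left i.left (l.left ≫ pr R K C) (by
    rw [Category.assoc, ← map_pr, ← map_pr, ← h, Over.comp_left, Category.assoc])
  refine ⟨Over.homMk s ?_, ?_⟩
  · rw [← Over.w i, reassoc_of% hs, Over.w t]
  · ext1
    exact hs

/-- A flat closed subscheme whose generic fibre is a subgroup is a subgroup. -/
theorem exists_grpObj {G C : Over (Spec (CommRingCat.of R))} [GrpObj G] [Flat C.hom] (i : C ⟶ G)
    [IsClosedImmersion i.left] {H : Over (Spec (CommRingCat.of K))} [GrpObj H] (j : H ⟶ Red.bc (tt R K) G)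
    [IsMonHom j] (e : Red.bc (tt R K) C ≅ H) (he : e.hom ≫ j = (Over.pullback (tt R K)).map i) :
    ∃ _ : GrpObj C, IsMonHom i := by
  have hm : Mono i := (Over.forget _).mono_of_mono_map (inferInstanceAs (Mono i.left))
  have he' : j = e.inv ≫ (Over.pullback (tt R K)).map i := by rw [← he, Iso.inv_hom_id_assoc]
  have hfst : Flat (fst C C).left := flat_fst C C
  have hCC : Flat (C ⊗ C).hom := by
    rw [← Over.w (fst C C)]
    infer_instance
  refine Groth.Agent.Sga3C.SubGrp.exists_grpObj_of_mono i ?_ ?_ ?_
  · let a : Red.bc (tt R K) (C ⊗ C) ⟶ H := (Over.pullback (tt R K)).map (fst C C) ≫ e.hom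
    let b : Red.bc (tt R K) (C ⊗ C) ⟶ H := (Over.pullback (tt R K)).map (snd C C) ≫ e.hom
    refine exists_lift_of_map K i ((i ⊗ₘ i) ≫ μ[G]) ((a * b) ≫ e.inv) ?_
    have h1 : (i ⊗ₘ i) ≫ μ[G] = (fst C C ≫ i) * (snd C C ≫ i) := by
      rw [Hom.mul_def]
      congr 1
    have h2 : (Over.pullback (tt R K)).map ((fst C C ≫ i) * (snd C C ≫ i)) =
        ((Over.pullback (tt R K)).map (fst C C ≫ i) : Red.bc (tt R K) (C ⊗ C) ⟶ Red.bc (tt R K) G) *
          (Over.pullback (tt R K)).map (snd C C ≫ i) := Functor.map_mul _ _ _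
    rw [h1, h2, Category.assoc, ← he', MonObj.mul_comp, Category.assoc, Category.assoc, he, Functor.map_comp,
      Functor.map_comp]
  · have hu : Flat (𝟙_ (Over (Spec (CommRingCat.of R)))).hom :=
      inferInstanceAs (Flat (𝟙 (Spec (CommRingCat.of R))))
    refine exists_lift_of_map K i η[G] ((1 : Red.bc (tt R K) (𝟙_ _) ⟶ H) ≫ e.inv) ?_
    rw [Category.assoc, ← he', MonObj.one_comp]
    have h1 : (η[G] : 𝟙_ _ ⟶ G) = 1 := MonObj.one_eq_one _
    have h2 : (Over.pullback (tt R K)).map (1 : 𝟙_ _ ⟶ G) = (1 : Red.bc (tt R K) (𝟙_ _) ⟶ Red.bc (tt R K) G) :=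
      Functor.map_one _
    rw [h1, h2]
  · refine exists_lift_of_map K i (i ≫ ι[G]) (e.hom⁻¹ ≫ e.inv) ?_
    rw [Category.assoc, ← he', GrpObj.inv_comp, he]
    have h1 : i ≫ ι[G] = i⁻¹ := (Hom.inv_def _).symm
    have h2 : (Over.pullback (tt R K)).map (i⁻¹) = ((Over.pullback (tt R K)).map i : Red.bc (tt R K) C ⟶ Red.bc (tt R K) G)⁻¹ :=
      Functor.map_inv' _ _
    rw [h1, h2]

/-- `j : H ⟶ G_K` has a finite locally free closure in `G`. -/
def HasFC {G : Over (Spec (CommRingCat.of R))} [GrpObj G] {H : Over (Spec (CommRingCat.of K))}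
    (j : H ⟶ Red.bc (tt R K) G) : Prop :=
  ∃ (C : Over (Spec (CommRingCat.of R))) (_ : GrpObj C) (i : C ⟶ G) (e : Red.bc (tt R K) C ≅ H),
    IsMonHom i ∧ IsClosedImmersion i.left ∧ Mor2.IsFinLocFree C.hom ∧ e.hom ≫ j = (Over.pullback (tt R K)).map i

theorem hasFC_of {G C : Over (Spec (CommRingCat.of R))} [GrpObj G] (i : C ⟶ G)
    [IsClosedImmersion i.left] (hC : Mor2.IsFinLocFree C.hom) {H : Over (Spec (CommRingCat.of K))} [GrpObj H]
    (j : H ⟶ Red.bc (tt R K) G)
    [IsMonHom j] (e : Red.bc (tt R K) C ≅ H) (he : e.hom ≫ j = (Over.pullback (tt R K)).map i) : HasFC K j := by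
  have : Flat C.hom := hC.2.1
  obtain ⟨g, hi⟩ := exists_grpObj K i j e he
  exact ⟨C, g, i, e, hi, inferInstance, hC, he⟩

end K982.FFClos

end
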