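import Groth.Agent.Sga3B.BcSpec892
import Groth.Agent.S11928
import Mathlib.RingTheory.Bialgebra.TensorProduct
import Mathlib.RingTheory.IntegralClosure.IntegrallyClosed
import Mathlib.LinearAlgebra.FreeModule.Finite.Matrix
import Groth.Agent.SGA3x.K7.GrpAlgFree
import Mathlib.RingTheory.HopfAlgebra.Convolution
import Mathlib.RingTheory.HopfAlgebra.MonoidAlgebra
import Mathlib.RingTheory.HopfAlgebra.GroupLike
import Mathlib.RingTheory.Flat.Stability
import Groth.Agent.S0618

/-!
# Group-like elements of a finite projective Hopf algebra over a normal domain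

`K982.GLExt.exists_groupLike`: characters of the generic fibre extend.
-/

set_option autoImplicit false
universe u v w t

section
open TensorProduct

namespace K982.GLExt

variable {R : Type u} [CommRing R] {K : Type u} [Field K] [Algebra R K] {A : Type u} [CommRing A]

section ev

variable [Algebra R A]

/-- evaluation of the base change of a linear form -/
noncomputable def evK (K : Type u) [Field K] [Algebra R K] (φ : A →ₗ[R] R) : K ⊗[R] A →ₗ[K] K :=
  (TensorProduct.AlgebraTensorModule.rid R K K).toLinearMap ∘ₗ φ.baseChange K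

@[simp] theorem evK_tmul (φ : A →ₗ[R] R) (c : K) (a : A) : evK K φ (c ⊗ₜ a) = φ a • c := by
  simp [evK]

theorem evK_one_tmul (φ : A →ₗ[R] R) (a : A) : evK K φ ((1 : K) ⊗ₜ a) = algebraMap R K (φ a) := by
  simp [Algebra.smul_def]

theorem evK_add (φ ψ : A →ₗ[R] R) : evK K (φ + ψ) = evK K φ + evK K ψ := by
  ext a
  simp [add_smul]

theorem evK_smul (r : R) (φ : A →ₗ[R] R) (w : K ⊗[R] A) : evK K (r • φ) w = algebraMap R K r * evK K φ w := by
  have h : evK K (r • φ) = algebraMap R K r • evK K φ := by
    ext a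
    simp [Algebra.smul_def]
  rw [h, LinearMap.smul_apply, smul_eq_mul]

/-- elements of `K ⊗ A` are separated by the linear forms of `A` -/
theorem ext_evK [Module.Finite R A] [Module.Projective R A] {w w' : K ⊗[R] A}
    (h : ∀ φ : A →ₗ[R] R, evK K φ w = evK K φ w') : w = w' := by
  obtain ⟨n, f, g, -, -, hfg⟩ := Module.Finite.exists_comp_eq_id_of_projective R A
  have key : ∀ w : K ⊗[R] A, w = ∑ i, (evK K (LinearMap.proj i ∘ₗ g) w) • ((1 : K) ⊗ₜ[R] f (Pi.single i 1)) := by
    intro w
    induction w using TensorProduct.induction_on with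
    | zero => simp
    | add x y hx hy =>
      conv_lhs => rw [hx, hy]
      simp only [map_add, add_smul, Finset.sum_add_distrib]
    | tmul c a =>
      have h1 : a = ∑ i, g a i • f (Pi.single i 1) := by
        conv_lhs => rw [← LinearMap.id_apply (R := R) a, ← hfg, LinearMap.comp_apply, ← Finset.univ_sum_single (g a)]
        rw [map_sum]
        refine Finset.sum_congr rfl fun i _ => ?_
        rw [← map_smul]
        congr 1
        ext j
        by_cases hj : j = i
        · subst hj; simp
        · simp [Pi.single_eq_of_ne hj]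
      conv_lhs => rw [h1, TensorProduct.tmul_sum]
      refine Finset.sum_congr rfl fun i _ => ?_
      rw [evK_tmul, TensorProduct.tmul_smul, TensorProduct.smul_tmul', TensorProduct.smul_tmul', smul_eq_mul, mul_one]
      rfl
  rw [key w, key w']
  refine Finset.sum_congr rfl fun i _ => ?_
  rw [h]

end ev

variable [HopfAlgebra R A]

theorem evK_conv (φ ψ : WithConv (A →ₗ[R] R)) (w : K ⊗[R] A) :
    evK K (φ * ψ).ofConv w =
      LinearMap.mul' K K (TensorProduct.map (evK K φ.ofConv) (evK K ψ.ofConv) (Coalgebra.comul (R := K) w)) := by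
  induction w using TensorProduct.induction_on with
  | zero => simp
  | add x y hx hy => simp only [map_add, hx, hy]
  | tmul c a =>
    have h0 : c ⊗ₜ[R] a = c • ((1 : K) ⊗ₜ[R] a) := by rw [TensorProduct.smul_tmul', smul_eq_mul, mul_one]
    rw [h0, map_smul, map_smul, map_smul, map_smul]
    congr 1
    have h1 := (Coalgebra.Repr.arbitrary R a).eq
    have h2 := Groth.Agent.Sga3B.BcSpec892.comul_one_tmul (L := K) a _ _ _ h1.symm
    have h3 := (Coalgebra.Repr.arbitrary R a).convMul_apply φ ψ
    rw [h2, map_sum, map_sum, evK_one_tmul]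
    refine (congrArg (algebraMap R K) h3).trans ?_
    rw [map_sum]
    refine Finset.sum_congr rfl fun i _ => ?_
    rw [TensorProduct.map_tmul, LinearMap.mul'_apply, evK_one_tmul, evK_one_tmul, map_mul]

theorem evK_one (w : K ⊗[R] A) :
    evK K (1 : WithConv (A →ₗ[R] R)).ofConv w = Coalgebra.counit (R := K) w := by
  induction w using TensorProduct.induction_on with
  | zero => simp
  | add x y hx hy => simp only [map_add, hx, hy]
  | tmul c a =>
    rw [evK_tmul, TensorProduct.counit_tmul]
    rfl

variable [IsIntegrallyClosed R] [IsFractionRing R K]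

/-- **Characters of the generic fibre extend.** -/
theorem exists_groupLike [Module.Finite R A] [Module.Projective R A] (w : K ⊗[R] A) (hw : IsGroupLikeElem K w) :
    ∃ a : A, IsGroupLikeElem R a ∧ (1 : K) ⊗ₜ[R] a = w := by
  have hinj : Function.Injective (algebraMap R K) := IsFractionRing.injective R K
  let F : WithConv (A →ₗ[R] R) →ₐ[R] K := AlgHom.ofLinearMap
    { toFun := fun φ => evK K φ.ofConv w
      map_add' := fun φ ψ => by
        change evK K (φ.ofConv + ψ.ofConv) w = _
        rw [evK_add]; rfl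
      map_smul' := fun c φ => by
        change evK K (c • φ.ofConv) w = _
        rw [evK_smul, RingHom.id_apply, Algebra.smul_def] }
    (by
      change evK K (1 : WithConv (A →ₗ[R] R)).ofConv w = 1
      rw [evK_one, hw.counit_eq_one])
    (fun φ ψ => by
      change evK K (φ * ψ).ofConv w = evK K φ.ofConv w * evK K ψ.ofConv w
      rw [evK_conv, hw.comul_eq_tmul_self, TensorProduct.map_tmul, LinearMap.mul'_apply])
  have hfin : Module.Finite R (WithConv (A →ₗ[R] R)) := by
    have : Module.Finite R (A →ₗ[R] R) := inferInstance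
    exact Module.Finite.equiv (M := A →ₗ[R] R) (WithConv.linearEquiv R _).symm
  have hint : ∀ φ, ∃ r : R, algebraMap R K r = F φ := by
    intro φ
    have h1 : IsIntegral R φ := Algebra.IsIntegral.isIntegral φ
    exact IsIntegrallyClosed.isIntegral_iff.mp (h1.map F)
  choose g hg using hint
  let f : WithConv (A →ₗ[R] R) →ₐ[R] R := AlgHom.ofLinearMap
    { toFun := g
      map_add' := fun φ ψ => hinj (by rw [hg, map_add, map_add, hg, hg])
      map_smul' := fun c φ => hinj (by rw [hg, map_smul, RingHom.id_apply, smul_eq_mul, map_mul, hg, Algebra.smul_def]) }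
    (hinj (by
      change algebraMap R K (g 1) = _
      rw [hg, map_one, map_one]))
    (fun φ ψ => hinj (by
      change algebraMap R K (g (φ * ψ)) = algebraMap R K (g φ * g ψ)
      rw [hg, map_mul, map_mul, hg, hg]))
  obtain ⟨x, ⟨hx, hfx⟩, -⟩ := (Groth.Agent.S11928.result R A).1 f
  refine ⟨x, hx, ?_⟩
  apply ext_evK
  intro φ
  rw [evK_one_tmul, ← hfx]
  exact hg (WithConv.toConv φ)

end K982.GLExt

end

/-!
# Flatness of the common kernel of characters

`A` a flat commutative Hopf algebra over `R`, `φ : A → R[X]` a bialgebra map (a homomorphism from a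
diagonalizable group), `g : Γ → A` a family of characters whose restrictions to the diagonalizable
group are pairwise distinct. Then the common kernel `A ⧸ (g γ - 1)` is flat over `R`.
-/

section
open TensorProduct WithConv

namespace K982.FlatKer

variable {R : Type u} [CommRing R] {A : Type v} [CommRing A] [HopfAlgebra R A] {X : Type w} [CommGroup X]
  {Γ : Type t} [CommGroup Γ]

theorem flat_quot [Module.Flat R A] (φ : A →ₐc[R] MonoidAlgebra R X) (g : Γ →* A)
    (hg : ∀ γ, IsGroupLikeElem R (g γ)) (f : Γ →* X) (hf : Function.Injective f)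
    (h : ∀ γ, φ (g γ) = MonoidAlgebra.of R X (f γ)) :
    Module.Flat R (A ⧸ Ideal.span (Set.range fun γ => g γ - 1)) := by
  set J : Ideal A := Ideal.span (Set.range fun γ => g γ - 1) with hJ
  let a1 : Algebra (MonoidAlgebra R Γ) A := (MonoidAlgebra.lift R A Γ g).toRingHom.toAlgebra
  let a2 : Algebra (MonoidAlgebra R Γ) (MonoidAlgebra R X) := (MonoidAlgebra.mapDomainRingHom R f).toAlgebra
  have hA : ∀ s : MonoidAlgebra R Γ, algebraMap (MonoidAlgebra R Γ) A s = MonoidAlgebra.lift R A Γ g s := fun _ => rfl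
  have hX : ∀ s : MonoidAlgebra R Γ, algebraMap (MonoidAlgebra R Γ) (MonoidAlgebra R X) s =
    MonoidAlgebra.mapDomain f s := fun _ => rfl
  have t1 : IsScalarTower R (MonoidAlgebra R Γ) A := IsScalarTower.of_algebraMap_eq fun r => by
    rw [hA, AlgHom.commutes]
  have t2 : IsScalarTower R (MonoidAlgebra R Γ) (MonoidAlgebra R X) := IsScalarTower.of_algebraMap_eq fun r => by
    rw [hX]
    simp
  have hfree : Module.Free (MonoidAlgebra R Γ) (MonoidAlgebra R X) := K7.GrpAlgFree.free_of_injective f hf
  have hflat : Module.Flat A (A ⊗[MonoidAlgebra R Γ] MonoidAlgebra R X) := inferInstance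
  have hflatR : Module.Flat R (A ⊗[MonoidAlgebra R Γ] MonoidAlgebra R X) := Module.Flat.trans R A _
  let iA : A →ₐ[R] A ⊗[MonoidAlgebra R Γ] MonoidAlgebra R X := Algebra.TensorProduct.includeLeft
  let iX : MonoidAlgebra R X →ₐ[R] A ⊗[MonoidAlgebra R Γ] MonoidAlgebra R X :=
    (Algebra.TensorProduct.includeRight : _ →ₐ[MonoidAlgebra R Γ] _).restrictScalars R
  let h1 : A →ₐ[R] A ⊗[MonoidAlgebra R Γ] MonoidAlgebra R X := iX.comp (φ : A →ₐ[R] _)
  let τ : WithConv (A →ₐ[R] A ⊗[MonoidAlgebra R Γ] MonoidAlgebra R X) :=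
    toConv iA * toConv (h1.comp (HopfAlgebra.antipodeAlgHom R A))
  have hmul : ∀ (p q : WithConv (A →ₐ[R] A ⊗[MonoidAlgebra R Γ] MonoidAlgebra R X)) (γ : Γ),
      (p * q).ofConv (g γ) = p.ofConv (g γ) * q.ofConv (g γ) := by
    intro p q γ
    have := AlgHom.convMul_apply p q (g γ)
    rw [(hg γ).comul_eq_tmul_self] at this
    exact this
  have hτ : ∀ γ, τ.ofConv (g γ) = 1 := by
    intro γ
    have e2 : iA (g γ) = h1 (g γ) := by
      change (g γ) ⊗ₜ[MonoidAlgebra R Γ] (1 : MonoidAlgebra R X) = (1 : A) ⊗ₜ[MonoidAlgebra R Γ] φ (g γ)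
      rw [h]
      have e3 : g γ = (MonoidAlgebra.of R Γ γ) • (1 : A) := by
        rw [Algebra.smul_def, hA, MonoidAlgebra.lift_of, mul_one]
      have e4 : MonoidAlgebra.of R X (f γ) = (MonoidAlgebra.of R Γ γ) • (1 : MonoidAlgebra R X) := by
        rw [Algebra.smul_def, hX, mul_one]
        simp
      rw [e4]
      conv_lhs => rw [e3]
      exact TensorProduct.smul_tmul _ _ _
    change (toConv iA * toConv (h1.comp (HopfAlgebra.antipodeAlgHom R A))).ofConv (g γ) = 1
    rw [hmul]
    change iA (g γ) * h1 (HopfAlgebra.antipode R (g γ)) = 1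
    rw [e2, ← map_mul, (hg γ).mul_antipode_cancel, map_one]
  let τ' : A ⧸ J →ₐ[R] A ⊗[MonoidAlgebra R Γ] MonoidAlgebra R X := Ideal.Quotient.liftₐ J τ.ofConv (by
    intro a ha
    have : J ≤ RingHom.ker τ.ofConv := by
      rw [hJ, Ideal.span_le]
      rintro _ ⟨γ, rfl⟩
      simp only [SetLike.mem_coe, RingHom.mem_ker, map_sub, map_one]
      rw [hτ, sub_self]
    exact this ha)
  have hmk : ∀ γ, (Ideal.Quotient.mk J (g γ)) = 1 := fun γ => by
    rw [← map_one (Ideal.Quotient.mk J), Ideal.Quotient.eq]
    exact Ideal.subset_span ⟨γ, rfl⟩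
  let eX : MonoidAlgebra R X →ₐ[MonoidAlgebra R Γ] A ⧸ J :=
    { toRingHom := (algebraMap R (A ⧸ J)).comp (Bialgebra.counitAlgHom R (MonoidAlgebra R X)).toRingHom
      commutes' := fun s => by
        change algebraMap R (A ⧸ J) (Coalgebra.counit (R := R) (MonoidAlgebra.mapDomain f s)) =
          Ideal.Quotient.mk J (MonoidAlgebra.lift R A Γ g s)
        induction s using MonoidAlgebra.induction_on with
        | of γ =>
          rw [MonoidAlgebra.lift_of, hmk]
          simp
        | add a b ha hb => rw [MonoidAlgebra.mapDomain_add, map_add, map_add, map_add, map_add, ha, hb]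
        | smul r a ha =>
          rw [MonoidAlgebra.mapDomain_smul, map_smul, smul_eq_mul, map_mul, ha, map_smul (MonoidAlgebra.lift R A Γ g),
            Algebra.smul_def, map_mul]
          rfl }
  let π : A ⊗[MonoidAlgebra R Γ] MonoidAlgebra R X →ₐ[MonoidAlgebra R Γ] A ⧸ J :=
    Algebra.TensorProduct.lift (Ideal.Quotient.mkₐ (MonoidAlgebra R Γ) J) eX (fun _ _ => Commute.all _ _)
  let πR : A ⊗[MonoidAlgebra R Γ] MonoidAlgebra R X →ₐ[R] A ⧸ J := π.restrictScalars R
  have e5 : πR.comp iA = Ideal.Quotient.mkₐ R J := by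
    ext a
    change π (a ⊗ₜ 1) = _
    rw [Algebra.TensorProduct.lift_tmul, map_one, mul_one]
    rfl
  have e6 : πR.comp (h1.comp (HopfAlgebra.antipodeAlgHom R A)) = (1 : WithConv (A →ₐ[R] A ⧸ J)).ofConv := by
    ext a
    change π (1 ⊗ₜ φ (HopfAlgebra.antipode R a)) = algebraMap R (A ⧸ J) (Coalgebra.counit (R := R) a)
    rw [Algebra.TensorProduct.lift_tmul, map_one, one_mul]
    change algebraMap R (A ⧸ J) (Coalgebra.counit (R := R) (φ (HopfAlgebra.antipode R a))) = _
    rw [CoalgHomClass.counit_comp_apply, HopfAlgebra.counit_antipode]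
  have key : πR.comp τ' = AlgHom.id R (A ⧸ J) := by
    apply Ideal.Quotient.algHom_ext
    have e7 : (πR.comp τ').comp (Ideal.Quotient.mkₐ R J) = πR.comp τ.ofConv := by
      ext a
      rfl
    rw [e7, AlgHom.comp_convMul_distrib]
    change ofConv (toConv (πR.comp iA) * toConv (πR.comp (h1.comp (HopfAlgebra.antipodeAlgHom R A)))) = _
    rw [e5, e6]
    change ofConv (toConv (Ideal.Quotient.mkₐ R J) * 1) = _
    rw [mul_one]
    rfl
  exact Module.Flat.of_retract τ'.toLinearMap πR.toLinearMap (by
    rw [← AlgHom.comp_toLinearMap, key]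
    rfl)

end K982.FlatKer

end

/-!
# The closure lemma, algebraic form

`R` a normal domain with fraction field `K`, `A` a finite projective commutative Hopf algebra over `R` with a
bialgebra map `φ : A → R[X]` (`X` finitely generated), `B → K ⊗ A` a bialgebra map (a quotient `Q` of the generic
fibre) such that `B → K ⊗ A → K ⊗ R[X]` is injective (the diagonalizable group maps onto `Q`). Then the kernel of the
generic fibre onto `Q` is the generic fibre of a flat closed subscheme.
-/

section
open TensorProduct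

namespace K982.ClosMultAlg

variable {R : Type u} [CommRing R] {K : Type u} [Field K] [Algebra R K]

/-- `K ⊗ R[X] → K[X]` -/
theorem exists_toK (X : Type) [CommGroup X] :
    ∃ f : K ⊗[R] MonoidAlgebra R X →ₐc[K] MonoidAlgebra K X, Function.Injective f := by
  let m : MonoidAlgebra R X →ₐ[R] MonoidAlgebra K X :=
    MonoidAlgebra.lift R (MonoidAlgebra K X) X (MonoidAlgebra.of K X)
  let f : K ⊗[R] MonoidAlgebra R X →ₐ[K] MonoidAlgebra K X :=
    Algebra.TensorProduct.lift (Algebra.ofId K (MonoidAlgebra K X)) m (fun _ _ => Commute.all _ _)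
  let g : MonoidAlgebra K X →ₐ[K] K ⊗[R] MonoidAlgebra R X :=
    MonoidAlgebra.lift K (K ⊗[R] MonoidAlgebra R X) X
      ((Algebra.TensorProduct.includeRight : MonoidAlgebra R X →ₐ[R] K ⊗[R] MonoidAlgebra R X).toMonoidHom.comp
        (MonoidAlgebra.of R X))
  have hf : ∀ x : X, f (1 ⊗ₜ MonoidAlgebra.of R X x) = MonoidAlgebra.of K X x := by
    intro x
    rw [Algebra.TensorProduct.lift_tmul, map_one, one_mul, MonoidAlgebra.lift_of]
  have hg : ∀ x : X, g (MonoidAlgebra.of K X x) = 1 ⊗ₜ MonoidAlgebra.of R X x := by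
    intro x
    rw [MonoidAlgebra.lift_of]
    rfl
  have hgf : g.comp f = AlgHom.id K _ := by
    apply Algebra.TensorProduct.ext
    · ext
    · refine MonoidAlgebra.algHom_ext (fun x => ?_) (Subsingleton.elim _ _)
      change g (f (1 ⊗ₜ MonoidAlgebra.of R X x)) = 1 ⊗ₜ MonoidAlgebra.of R X x
      rw [hf, hg]
  refine ⟨BialgHom.ofAlgHom f ?_ ?_, fun a b hab => ?_⟩
  · apply Algebra.TensorProduct.ext
    · ext
    · refine MonoidAlgebra.algHom_ext (fun x => ?_) (Subsingleton.elim _ _)
      change Coalgebra.counit (R := K) (f (1 ⊗ₜ MonoidAlgebra.of R X x)) =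
        Coalgebra.counit (R := K) ((1 : K) ⊗ₜ[R] MonoidAlgebra.of R X x)
      rw [hf, (MonoidAlgebra.isGroupLikeElem_of x).counit_eq_one, TensorProduct.counit_tmul,
        (MonoidAlgebra.isGroupLikeElem_of (R := R) (A := R) x).counit_eq_one]
      simp
  · apply Algebra.TensorProduct.ext
    · ext
    · refine MonoidAlgebra.algHom_ext (fun x => ?_) (Subsingleton.elim _ _)
      change Algebra.TensorProduct.map f f (Coalgebra.comul (R := K) ((1 : K) ⊗ₜ[R] MonoidAlgebra.of R X x)) =
        Coalgebra.comul (R := K) (f (1 ⊗ₜ MonoidAlgebra.of R X x))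
      rw [hf, (MonoidAlgebra.isGroupLikeElem_of x).comul_eq_tmul_self,
        Groth.Agent.Sga3B.BcSpec892.comul_one_tmul (L := K) (MonoidAlgebra.of R X x) {()} (fun _ => MonoidAlgebra.of R X x)
          (fun _ => MonoidAlgebra.of R X x) (by
            rw [(MonoidAlgebra.isGroupLikeElem_of (R := R) (A := R) x).comul_eq_tmul_self, Finset.sum_singleton]),
        Finset.sum_singleton, Algebra.TensorProduct.map_tmul, hf]
  · have h1 : g.comp f a = g.comp f b := congrArg g hab
    rwa [hgf] at h1

variable {A : Type u} [CommRing A] [HopfAlgebra R A]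

theorem map_ker_eq {B C : Type*} [CommRing B] [HopfAlgebra K B] [CommRing C] [Algebra K C] (ρ : B →ₐ[K] C)
    (hB : Submodule.span K {b : B | IsGroupLikeElem K b} = ⊤) :
    (RingHom.ker (Bialgebra.counitAlgHom K B)).map ρ =
      Ideal.span (Set.range fun b : GroupLike K B => ρ b.val - 1) := by
  apply le_antisymm
  · rw [Ideal.map_le_iff_le_comap]
    intro b hb
    have key : ∀ b : B, ρ b - algebraMap K C (Coalgebra.counit (R := K) b) ∈
        Ideal.span (Set.range fun b : GroupLike K B => ρ b.val - 1) := by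
      intro b
      have hb' : b ∈ Submodule.span K {b : B | IsGroupLikeElem K b} := hB ▸ Submodule.mem_top
      induction hb' using Submodule.span_induction with
      | mem x hx =>
        have hx' : IsGroupLikeElem K x := hx
        rw [hx'.counit_eq_one, map_one]
        exact Ideal.subset_span ⟨⟨x, hx'⟩, rfl⟩
      | zero => simp
      | add x y _ _ hx hy =>
        rw [map_add, map_add, map_add, add_sub_add_comm]
        exact add_mem hx hy
      | smul c x _ hx =>
        rw [map_smul, map_smul, smul_eq_mul, map_mul, Algebra.smul_def, ← mul_sub]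
        exact Ideal.mul_mem_left _ _ hx
    have h1 := key b
    have h2 : Coalgebra.counit (R := K) b = 0 := hb
    rwa [h2, map_zero, sub_zero] at h1
  · rw [Ideal.span_le]
    rintro _ ⟨b, rfl⟩
    change ρ b.val - 1 ∈ _
    have h1 : ρ b.val - 1 = ρ (b.val - 1) := by rw [map_sub, map_one]
    rw [h1]
    refine Ideal.mem_map_of_mem _ ?_
    rw [RingHom.mem_ker, map_sub, map_one, Bialgebra.counitAlgHom_apply, b.isGroupLikeElem_val.counit_eq_one, sub_self]

theorem exists_ideal [IsDomain R] [IsIntegrallyClosed R] [IsFractionRing R K] [Module.Finite R A] [Module.Projective R A] {X : Type}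
    [CommGroup X] [Group.FG X] (φ : A →ₐc[R] MonoidAlgebra R X) {B : Type u} [CommRing B] [HopfAlgebra K B]
    [Module.Finite K B] (ρ : B →ₐc[K] K ⊗[R] A)
    (hρ : Function.Injective ((Bialgebra.TensorProduct.map (BialgHom.id K K) φ).comp ρ)) :
    ∃ J : Ideal A, J.FG ∧ Module.Flat R (A ⧸ J) ∧
      J.map (Algebra.TensorProduct.includeRight : A →ₐ[R] K ⊗[R] A) =
        (RingHom.ker (Bialgebra.counitAlgHom K B)).map (ρ : B →ₐ[K] K ⊗[R] A) := by
  obtain ⟨F, hF⟩ := exists_toK (R := R) (K := K) X
  have hspan := Groth.Agent.S0618.result (F.comp ((Bialgebra.TensorProduct.map (BialgHom.id K K) φ).comp ρ))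
    (hF.comp hρ)
  have hinjA : Function.Injective (Algebra.TensorProduct.includeRight : A →ₐ[R] K ⊗[R] A) :=
    Algebra.TensorProduct.includeRight_injective (IsFractionRing.injective R K)
  have h1 : ∀ b : GroupLike K B, ∃ a : A, IsGroupLikeElem R a ∧ (1 : K) ⊗ₜ[R] a = ρ b.val := fun b =>
    GLExt.exists_groupLike _ (b.isGroupLikeElem_val.map ρ)
  choose a ha1 ha2 using h1
  have ha2' : ∀ b, (Algebra.TensorProduct.includeRight : A →ₐ[R] K ⊗[R] A) (a b) = ρ b.val := ha2
  let g : GroupLike K B →* A :=
    { toFun := a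
      map_one' := hinjA (by rw [ha2', map_one, GroupLike.val_one, map_one])
      map_mul' := fun b c => hinjA (by rw [ha2', map_mul, ha2', ha2', GroupLike.val_mul, map_mul]) }
  have h2 : ∀ b, ∃ x : X, MonoidAlgebra.of R X x = φ (a b) := fun b =>
    MonoidAlgebra.isGroupLikeElem_iff_mem_range_of.1 ((ha1 b).map φ)
  choose x hx using h2
  have hofi : Function.Injective (MonoidAlgebra.of R X) := MonoidAlgebra.of_injective
  let f : GroupLike K B →* X :=
    { toFun := x
      map_one' := hofi (by
        rw [hx, map_one]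
        have : a 1 = 1 := g.map_one
        rw [this, map_one])
      map_mul' := fun b c => hofi (by
        rw [hx, map_mul, hx, hx, ← map_mul]
        exact congrArg φ (g.map_mul b c)) }
  have hf : Function.Injective f := by
    intro b c hbc
    have e1 : φ (a b) = φ (a c) := by
      rw [← hx, ← hx]
      exact congrArg (MonoidAlgebra.of R X) hbc
    apply GroupLike.val_injective
    apply hρ
    change (Bialgebra.TensorProduct.map (BialgHom.id K K) φ) (ρ b.val) =
      (Bialgebra.TensorProduct.map (BialgHom.id K K) φ) (ρ c.val)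
    rw [← ha2, ← ha2, Bialgebra.TensorProduct.map_tmul, Bialgebra.TensorProduct.map_tmul, e1]
  have hfin : Finite (GroupLike K B) := (linearIndep_groupLikeVal (R := K) (A := B)).finite
  refine ⟨_, Submodule.fg_span (Set.finite_range _), FlatKer.flat_quot φ g ha1 f hf (fun b => (hx b).symm), ?_⟩
  rw [map_ker_eq (ρ : B →ₐ[K] K ⊗[R] A) hspan, Ideal.map_span, ← Set.range_comp]
  congr 2
  ext b
  change (Algebra.TensorProduct.includeRight : A →ₐ[R] K ⊗[R] A) (a b - 1) = ρ b.val - 1
  rw [map_sub, map_one, ha2']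

end K982.ClosMultAlg

end
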