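import Groth.Agent.GrpSch.K982.FFClos
import Groth.Agent.GrpSch.K982.ClosMultAlg
import Groth.Agent.TateLoc.K809.QuotFin
import Groth.Agent.Sga3B.RG.BrDiag

/-!
# The closure lemma

`R` a normal domain with fraction field `K`, `P` a finite locally free commutative group scheme over `R`,
`m : M ⟶ P` a homomorphism from a diagonalizable group, `H ⟶ P_K` a closed subgroup such that `H` and `M_K`
generate `P_K`. Then the closure of `H` in `P` is finite locally free.
-/

set_option autoImplicit false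
universe u

open CategoryTheory CategoryTheory.Limits AlgebraicGeometry MonoidalCategory
  CartesianMonoidalCategory MonObj GrpObj TensorProduct

namespace K982.ClosMult

open Groth.Agent.Pic13.H508.QuotModel Groth.Agent.Books.AffBridge Groth.Agent.Books.AffBridge2 FFClos

section fn

variable {k : Type u} [CommRing k]

/-- the map on functions of a morphism to an affine scheme -/
noncomputable def fnHom {T : Over (Spec (CommRingCat.of k))} {B : Type u} [CommRing B] [Algebra k B]
    (t : T ⟶ SpecOver k B) : B →+* Γ(T.left, ⊤) :=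
  ((Scheme.ΓSpecIso (CommRingCat.of B)).inv ≫ t.left.appTop).hom

theorem fnHom_comp {T : Over (Spec (CommRingCat.of k))} {B C : Type u} [CommRing B] [Algebra k B]
    [CommRing C] [Algebra k C] (t : T ⟶ SpecOver k C) (f : B →ₐ[k] C) :
    fnHom (t ≫ specMap k f) = (fnHom t).comp f.toRingHom := by
  have h : (Scheme.ΓSpecIso (CommRingCat.of B)).inv ≫ (t ≫ specMap k f).left.appTop =
      CommRingCat.ofHom f.toRingHom ≫ (Scheme.ΓSpecIso (CommRingCat.of C)).inv ≫ t.left.appTop := by
    let t' : T.left ⟶ Spec (CommRingCat.of C) := t.left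
    change (Scheme.ΓSpecIso (CommRingCat.of B)).inv ≫ (t' ≫ Spec.map (CommRingCat.ofHom f.toRingHom)).appTop =
      CommRingCat.ofHom f.toRingHom ≫ (Scheme.ΓSpecIso (CommRingCat.of C)).inv ≫ t'.appTop
    rw [Scheme.Hom.comp_appTop, Scheme.ΓSpecIso_inv_naturality_assoc]
  exact congrArg (fun x => x.hom) h

theorem fnHom_injective {T : Over (Spec (CommRingCat.of k))} {B : Type u} [CommRing B] [Algebra k B]
    (t : T ⟶ SpecOver k B) [QuasiCompact t.left] [IsSchemeTheoreticallyDominant t.left] :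
    Function.Injective (fnHom t) := by
  have h1 : Function.Injective t.left.appTop := t.left.app_injective ⊤
  have h2 : Function.Injective (Scheme.ΓSpecIso (CommRingCat.of B)).inv :=
    (ConcreteCategory.bijective_of_isIso _).1
  exact h1.comp h2

end fn

variable {R : Type u} [CommRing R] (K : Type u) [Field K] [Algebra R K]

/-- A morphism to the base change of `Spec A` killing the ideal `J` factors through the base change of `Spec (A ⧸ J)`. -/
theorem exists_lift_quot {A : Type u} [CommRing A] [Algebra R A] (J : Ideal A) {D : Type u} [CommRing D] [Algebra K D]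
    (θ : K ⊗[R] A →ₐ[K] D) (hθ : ∀ a ∈ J, θ (1 ⊗ₜ a) = 0) :
    ∃ θ' : K ⊗[R] (A ⧸ J) →ₐ[K] D, θ'.comp (Algebra.TensorProduct.map (AlgHom.id K K) (Ideal.Quotient.mkₐ R J)) = θ := by
  let _ : Algebra R D := Algebra.compHom D (algebraMap R K)
  have : IsScalarTower R K D := IsScalarTower.of_algebraMap_eq fun _ => rfl
  let ψ : A →ₐ[R] D := (θ.restrictScalars R).comp Algebra.TensorProduct.includeRight
  let ψ' : A ⧸ J →ₐ[R] D := Ideal.Quotient.liftₐ J ψ hθ
  refine ⟨Algebra.TensorProduct.lift (Algebra.ofId K D) ψ' (fun _ _ => Commute.all _ _), ?_⟩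
  apply Algebra.TensorProduct.ext
  · ext
  · ext a
    change Algebra.TensorProduct.lift (Algebra.ofId K D) ψ' (fun _ _ => Commute.all _ _)
      (1 ⊗ₜ (Ideal.Quotient.mk J a)) = θ (1 ⊗ₜ a)
    rw [Algebra.TensorProduct.lift_tmul, map_one, _root_.one_mul]
    rfl

theorem y_comp {A D : Type u} [CommRing A] [Algebra R A] [CommRing D] [Algebra R D] (φ : A →ₐ[R] D)
    {P M : Over (Spec (CommRingCat.of R))} (e : P ≅ SpecOver R A) (δ : SpecOver R D ⟶ M) [IsIso δ] (m : M ⟶ P)
    (hφ : specMap R φ = δ ≫ m ≫ e.hom) {T : Over (Spec (CommRingCat.of K))} (b : T ⟶ Red.bc (tt R K) M) :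
    (b ≫ (Over.pullback (tt R K)).map (inv δ) ≫ (β R K D).hom) ≫
      specMap K (Algebra.TensorProduct.map (AlgHom.id K K) φ) ≫ (β R K A).inv ≫
        (Over.pullback (tt R K)).map e.inv = b ≫ (Over.pullback (tt R K)).map m := by
  have h1 : (β R K D).hom ≫ specMap K (Algebra.TensorProduct.map (AlgHom.id K K) φ) =
      (Over.pullback (tt R K)).map (specMap R φ) ≫ (β R K A).hom := (map_specMap_β R K φ).symm
  rw [Category.assoc, Category.assoc, reassoc_of% h1, Iso.hom_inv_id_assoc, hφ, ← Functor.map_comp_assoc,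
    ← Functor.map_comp]
  congr 2
  simp

theorem sigma_injective {C D B : Type u} [CommRing C] [Algebra K C] [CommRing D] [Algebra K D] [CommRing B]
    [Algebra K B] (ψ : C →ₐ[K] D) (ρ : B →ₐ[K] C) (hρ : Function.Injective ρ) {T : Over (Spec (CommRingCat.of K))}
    (x : T ⟶ SpecOver K C) [QuasiCompact x.left] [IsSchemeTheoreticallyDominant x.left] (y : T ⟶ SpecOver K D)
    (hxy : x ≫ specMap K ρ = y ≫ specMap K ψ ≫ specMap K ρ) : Function.Injective (ψ.comp ρ) := by
  have h5 : Function.Injective (fnHom (x ≫ specMap K ρ)) := by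
    rw [fnHom_comp]
    exact (fnHom_injective x).comp hρ
  rw [hxy, ← specMap_comp, fnHom_comp] at h5
  exact Function.Injective.of_comp (f := fnHom y) h5

omit [Field K] [Algebra R K] in
theorem trivial_iff [Field K] {B D : Type u} [CommRing B] [HopfAlgebra K B] [CommRing D] [Algebra K D] (f : B →ₐ[K] D) :
    specMap K f = 1 ↔ ∀ b, f b = algebraMap K D (Coalgebra.counit (R := K) b) := by
  have h1 := specMap_one K (A := B) (R := D)
  rw [← h1]
  constructor
  · intro h b
    have h2 := specMap_injective K h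
    rw [h2]
    rfl
  · intro h
    congr 1
    ext b
    rw [h]
    rfl

/-- Identification of a closed subgroup with the base change of a closed subscheme of the model. -/
theorem exists_iso {A : Type u} [CommRing A] [Algebra R A] {P : Over (Spec (CommRingCat.of R))}
    (e : P ≅ SpecOver R A) {H Q : Over (Spec (CommRingCat.of K))} [GrpObj Q] (j : H ⟶ Red.bc (tt R K) P)
    [IsAffine H.left] [Mono j] (q : Red.bc (tt R K) P ⟶ Q) (hk : AlgGrp.IsKernel j q) {B : Type u} [CommRing B]
    [HopfAlgebra K B] (eQ : Q ≅ SpecOver K B) [IsMonHom eQ.hom] (ρ : B →ₐ[K] K ⊗[R] A)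
    (hρ : specMap K ρ = (β R K A).inv ≫ (Over.pullback (tt R K)).map e.inv ≫ q ≫ eQ.hom) (J : Ideal A)
    (hJ : J.map (Algebra.TensorProduct.includeRight : A →ₐ[R] K ⊗[R] A) =
      (RingHom.ker (Bialgebra.counitAlgHom K B)).map ρ) :
    ∃ eC : Red.bc (tt R K) (SpecOver R (A ⧸ J)) ≅ H, eC.hom ≫ j =
      (Over.pullback (tt R K)).map (specMap R (Ideal.Quotient.mkₐ R J) ≫ e.inv) := by
  let i : SpecOver R (A ⧸ J) ⟶ P := specMap R (Ideal.Quotient.mkₐ R J) ≫ e.inv
  let ν : K ⊗[R] A →ₐ[K] K ⊗[R] (A ⧸ J) := Algebra.TensorProduct.map (AlgHom.id K K) (Ideal.Quotient.mkₐ R J)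
  have hi : (Over.pullback (tt R K)).map i = (β R K (A ⧸ J)).hom ≫ specMap K ν ≫ (β R K A).inv ≫
      (Over.pullback (tt R K)).map e.inv := by
    have h1 : (β R K (A ⧸ J)).hom ≫ specMap K ν =
        (Over.pullback (tt R K)).map (specMap R (Ideal.Quotient.mkₐ R J)) ≫ (β R K A).hom :=
      (map_specMap_β R K (Ideal.Quotient.mkₐ R J)).symm
    rw [reassoc_of% h1, Iso.hom_inv_id_assoc, ← Functor.map_comp]
  have hνJ : J.map (Algebra.TensorProduct.includeRight : A →ₐ[R] K ⊗[R] A) ≤ RingHom.ker ν := by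
    rw [Ideal.map_le_iff_le_comap]
    intro a ha
    change ν (1 ⊗ₜ a) = 0
    rw [Algebra.TensorProduct.map_tmul]
    have : Ideal.Quotient.mkₐ R J a = 0 := Ideal.Quotient.eq_zero_iff_mem.2 ha
    rw [this, tmul_zero]
  have hmem : ∀ b : B, ρ b - algebraMap K (K ⊗[R] A) (Coalgebra.counit (R := K) b) ∈
      (RingHom.ker (Bialgebra.counitAlgHom K B)).map ρ := by
    intro b
    have h1 : ρ b - algebraMap K (K ⊗[R] A) (Coalgebra.counit (R := K) b) =
        ρ (b - algebraMap K B (Coalgebra.counit (R := K) b)) := by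
      rw [map_sub, AlgHom.commutes]
    rw [h1]
    refine Ideal.mem_map_of_mem _ ?_
    rw [RingHom.mem_ker, map_sub, Bialgebra.counitAlgHom_apply, AlgHom.commutes]
    exact sub_self _
  -- the first map
  have e1 : (Over.pullback (tt R K)).map i ≫ q = 1 := by
    have h2 : (Over.pullback (tt R K)).map i ≫ q ≫ eQ.hom = (β R K (A ⧸ J)).hom ≫ specMap K (ν.comp ρ) := by
      rw [hi, specMap_comp, hρ]
      simp only [Category.assoc]
    have h3 : specMap K (ν.comp ρ) = 1 := by
      rw [trivial_iff]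
      intro b
      have h4 : ν (ρ b - algebraMap K (K ⊗[R] A) (Coalgebra.counit (R := K) b)) = 0 := hνJ (hJ ▸ hmem b)
      rw [map_sub, AlgHom.commutes, sub_eq_zero] at h4
      exact h4
    have h5 : ((Over.pullback (tt R K)).map i ≫ q) ≫ eQ.hom = 1 ≫ eQ.hom := by
      rw [Category.assoc, h2, h3, MonObj.comp_one, MonObj.one_comp]
    exact (cancel_mono eQ.hom).1 h5
  let u1 : Red.bc (tt R K) (SpecOver R (A ⧸ J)) ⟶ H := IsPullback.lift hk ((Over.pullback (tt R K)).map i) (toUnit _) (by
    rw [e1, Hom.one_def])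
  have hu1 : u1 ≫ j = (Over.pullback (tt R K)).map i := IsPullback.lift_fst hk _ _ _
  -- the second map
  obtain ⟨D, _, _, ⟨g⟩⟩ := exists_alg K H
  have hjq : j ≫ q = 1 := by
    rw [hk.w, Hom.one_def]
  let p : SpecOver K (K ⊗[R] A) ⟶ Red.bc (tt R K) P := (β R K A).inv ≫ (Over.pullback (tt R K)).map e.inv
  have hp : IsIso p := inferInstance
  let θ : K ⊗[R] A →ₐ[K] D := specPreimage K (g.hom ≫ j ≫ inv p)
  have hθ : specMap K θ = g.hom ≫ j ≫ inv p := specMap_specPreimage K _
  have hθρ : specMap K (θ.comp ρ) = 1 := by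
    rw [specMap_comp, hθ, hρ]
    change (g.hom ≫ j ≫ inv p) ≫ p ≫ q ≫ eQ.hom = 1
    rw [Category.assoc, Category.assoc, IsIso.inv_hom_id_assoc, reassoc_of% hjq, MonObj.one_comp, MonObj.comp_one]
  rw [trivial_iff] at hθρ
  have hθJ : ∀ a ∈ J, θ (1 ⊗ₜ a) = 0 := by
    have h1 : (RingHom.ker (Bialgebra.counitAlgHom K B)).map ρ ≤ RingHom.ker θ := by
      rw [Ideal.map_le_iff_le_comap]
      intro b hb
      change θ (ρ b) = 0
      have h2 := hθρ b
      have h3 : Coalgebra.counit (R := K) b = 0 := hb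
      rw [h3, map_zero] at h2
      exact h2
    intro a ha
    exact h1 (hJ ▸ Ideal.mem_map_of_mem _ ha)
  obtain ⟨θ', hθ'⟩ := exists_lift_quot K J θ hθJ
  let u2 : H ⟶ Red.bc (tt R K) (SpecOver R (A ⧸ J)) := g.inv ≫ specMap K θ' ≫ (β R K (A ⧸ J)).inv
  have hu2 : u2 ≫ (Over.pullback (tt R K)).map i = j := by
    rw [hi]
    change (g.inv ≫ specMap K θ' ≫ (β R K (A ⧸ J)).inv) ≫ (β R K (A ⧸ J)).hom ≫ specMap K ν ≫ p = j
    have h1 : specMap K θ' ≫ specMap K ν = specMap K θ := by
      rw [← specMap_comp, hθ']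
    simp only [Category.assoc, Iso.inv_hom_id_assoc]
    rw [reassoc_of% h1, hθ]
    simp
  have hcl : IsClosedImmersion (specMap R (Ideal.Quotient.mkₐ R J)).left :=
    IsClosedImmersion.spec_of_surjective _ (Ideal.Quotient.mkₐ_surjective R J)
  have him : Mono i := by
    have : Mono (specMap R (Ideal.Quotient.mkₐ R J)) :=
      (Over.forget _).mono_of_mono_map (inferInstanceAs (Mono (specMap R (Ideal.Quotient.mkₐ R J)).left))
    infer_instance
  have himK : Mono ((Over.pullback (tt R K)).map i) := inferInstance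
  refine ⟨⟨u1, u2, ?_, ?_⟩, hu1⟩
  · rw [← cancel_mono ((Over.pullback (tt R K)).map i), Category.assoc, hu2, hu1, Category.id_comp]
  · rw [← cancel_mono j, Category.assoc, hu1, hu2, Category.id_comp]

variable [IsDomain R] [IsIntegrallyClosed R] [IsFractionRing R K]

theorem hasFC_of_gen {P : Over (Spec (CommRingCat.of R))} [GrpObj P] [IsCommMonObj P] (hP : Mor2.IsFinLocFree P.hom)
    {X : Type} [AddCommGroup X] [AddGroup.FG X] (m : Red.DS (Spec (CommRingCat.of R)) X ⟶ P) [IsMonHom m]
    {H : Over (Spec (CommRingCat.of K))} [GrpObj H] (j : H ⟶ Red.bc (tt R K) P) [IsMonHom j]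
    [IsClosedImmersion j.left] {T : Over (Spec (CommRingCat.of K))} (c : T ⟶ Red.bc (tt R K) P)
    [QuasiCompact c.left] [IsSchemeTheoreticallyDominant c.left] (a : T ⟶ H)
    (b : T ⟶ Red.bc (tt R K) (Red.DS (Spec (CommRingCat.of R)) X))
    (hc : c = (a ≫ j) * (b ≫ (Over.pullback (tt R K)).map m)) : HasFC K j := by
  have iP : IsFinite P.hom := hP.1
  have iPa : IsAffine P.left := isAffine_of_isAffineHom P.hom
  obtain ⟨A, _, _, e, he⟩ := exists_hopf R P
  obtain ⟨hA1, hA2⟩ := BcAff.module_of_chart hP e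
  have hd := Groth.Agent.Sga3B.RG.BrDiag.isMonHom_diagTo R X
  obtain ⟨φ, hφ⟩ := exists_bialgHom_of_isMonHom R (Groth.Agent.Sga3B.RG.BrDiag.diagTo R X ≫ m ≫ e.hom)
  -- the quotient of the generic fibre
  have iPK : IsFinite (Red.bc (tt R K) P).hom := inferInstanceAs (IsFinite (pullback.snd P.hom (tt R K)))
  have iH : IsFinite H.hom := by
    rw [← Over.w j]
    exact MorphismProperty.comp_mem _ _ _ inferInstance inferInstance
  have hH : Mor2.IsFinLocFree H.hom := BcAff.isFinLocFree_field
  have hj : Mono j := (Over.forget _).mono_of_mono_map (inferInstanceAs (Mono j.left))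
  have hcomm : IsCommMonObj (Red.bc (tt R K) P) := inferInstance
  obtain ⟨Q, _, _, q, hq, hq1, hq2, hq3, hq4, -⟩ := K809.QuotFin.exists_quot j hH inferInstance
  have iQ : IsAffine Q.left := hq3 (isAffine_of_isAffineHom (Red.bc (tt R K) P).hom)
  obtain ⟨B, _, _, eQ, heQ⟩ := exists_hopf K Q
  have hβ := BcAff.isMonHom_β_inv R K A
  have he' : IsMonHom e.inv := inferInstance
  have heK : IsMonHom ((Over.pullback (tt R K)).map e.inv : Red.bc (tt R K) (SpecOver R A) ⟶ Red.bc (tt R K) P) :=
    inferInstance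
  let p : SpecOver K (K ⊗[R] A) ⟶ Red.bc (tt R K) P := (β R K A).inv ≫ (Over.pullback (tt R K)).map e.inv
  have hp : IsMonHom p := inferInstance
  have hpi : IsIso p := inferInstance
  obtain ⟨ρ, hρ⟩ := exists_bialgHom_of_isMonHom K (p ≫ q ≫ eQ.hom)
  -- injectivity of `ρ`
  have hρi : Function.Injective ρ := by
    obtain ⟨j1, j2, j3⟩ := hq1
    have i1 : IsIso p.left := inferInstanceAs (IsIso ((Over.forget _).map p))
    have i2 : IsIso eQ.hom.left := inferInstanceAs (IsIso ((Over.forget _).map eQ.hom))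
    have h0 : (specMap K (ρ : B →ₐ[K] K ⊗[R] A)).left = p.left ≫ q.left ≫ eQ.hom.left := by
      rw [hρ]; rfl
    have h1 : Flat (specMap K (ρ : B →ₐ[K] K ⊗[R] A)).left := by rw [h0]; infer_instance
    have h2 : Surjective (specMap K (ρ : B →ₐ[K] K ⊗[R] A)).left := by rw [h0]; infer_instance
    exact ((flat_and_surjective_specMap_iff K (ρ : B →ₐ[K] K ⊗[R] A)).1 ⟨h1, h2⟩).injective
  have hBf : Module.Finite K B := Module.Finite.of_injective (ρ : B →ₐ[K] K ⊗[R] A).toLinearMap hρi
  -- injectivity on the diagonalizable group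
  have hjq : j ≫ q = toUnit H ≫ η[Q] := hq4.w
  have hcq : c ≫ q = b ≫ (Over.pullback (tt R K)).map m ≫ q := by
    have h1 : (a ≫ j) ≫ q = 1 := by
      rw [Category.assoc, hjq, ← Category.assoc, Hom.one_def]
      congr 1
      exact toUnit_unique _ _
    rw [hc, MonObj.mul_comp, h1, _root_.one_mul, Category.assoc]
  have hσ : Function.Injective ((Bialgebra.TensorProduct.map (BialgHom.id K K) φ).comp ρ) := by
    let x : T ⟶ SpecOver K (K ⊗[R] A) := c ≫ inv p
    let y : T ⟶ SpecOver K (K ⊗[R] MonoidAlgebra R (Multiplicative X)) :=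
      b ≫ (Over.pullback (tt R K)).map (inv (Groth.Agent.Sga3B.RG.BrDiag.diagTo R X)) ≫ (β R K _).hom
    have hx : x.left = c.left ≫ (inv p).left := rfl
    have i1 : IsIso (inv p).left := inferInstanceAs (IsIso ((Over.forget _).map (inv p)))
    have hx1 : QuasiCompact x.left := by rw [hx]; infer_instance
    have hx2 : IsSchemeTheoreticallyDominant x.left := by rw [hx]; infer_instance
    have hy := y_comp K (φ : A →ₐ[R] MonoidAlgebra R (Multiplicative X)) e
      (Groth.Agent.Sga3B.RG.BrDiag.diagTo R X) m hφ b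
    refine sigma_injective K (Algebra.TensorProduct.map (AlgHom.id K K) (φ : A →ₐ[R] MonoidAlgebra R (Multiplicative X)))
      (ρ : B →ₐ[K] K ⊗[R] A) hρi x y ?_
    rw [hρ]
    change (c ≫ inv p) ≫ p ≫ q ≫ eQ.hom = _
    rw [Category.assoc, IsIso.inv_hom_id_assoc, reassoc_of% hcq]
    exact (congrArg (fun z => z ≫ q ≫ eQ.hom) hy).symm.trans (by simp only [Category.assoc, p, y])
  obtain ⟨J, hJ1, hJ2, hJ3⟩ := ClosMultAlg.exists_ideal φ ρ hσ
  have iHa : IsAffine H.left := isAffine_of_isAffineHom H.hom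
  obtain ⟨eC, heC⟩ := exists_iso K e j q hq4 eQ (ρ : B →ₐ[K] K ⊗[R] A) (by
    rw [hρ]
    simp only [p, Category.assoc]) J hJ3
  have hcl : IsClosedImmersion (specMap R (Ideal.Quotient.mkₐ R J)).left :=
    IsClosedImmersion.spec_of_surjective _ (Ideal.Quotient.mkₐ_surjective R J)
  have hcl' : IsClosedImmersion (specMap R (Ideal.Quotient.mkₐ R J) ≫ e.inv).left := by
    have : IsIso e.inv.left := inferInstanceAs (IsIso ((Over.forget _).map e.inv))
    rw [Over.comp_left]
    infer_instance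
  have hAfp : Module.FinitePresentation R A := Module.finitePresentation_of_projective R A
  have hJf : Module.Finite A J := Module.Finite.iff_fg.2 hJ1
  have hJf' : Module.Finite R J := Module.Finite.trans A J
  have hfp : Module.FinitePresentation R (A ⧸ J) :=
    Module.finitePresentation_of_surjective (Ideal.Quotient.mkₐ R J).toLinearMap (Ideal.Quotient.mkₐ_surjective R J) (by
      have h1 : LinearMap.ker (Ideal.Quotient.mkₐ R J).toLinearMap = J.restrictScalars R := by
        ext x
        exact Ideal.Quotient.eq_zero_iff_mem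
      rw [h1]
      exact Module.Finite.iff_fg.1 hJf')
  exact hasFC_of K (specMap R (Ideal.Quotient.mkₐ R J) ≫ e.inv) BcAff.isFinLocFree_specOver j eC heC

end K982.ClosMult
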