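import Mathlib.RingTheory.Smooth.IntegralClosure
import Mathlib.RingTheory.Artinian.Module
import Mathlib.RingTheory.Unramified.Field
import Mathlib.RingTheory.Etale.Basic
import Mathlib.RingTheory.Etale.Field
import Mathlib.RingTheory.IntegralClosure.IntegrallyClosed
import Groth.Agent.GrpSch.K982.FFClos
import Groth.Agent.Books.AffBridge2
import Mathlib.AlgebraicGeometry.Morphisms.Etale
import Mathlib.AlgebraicGeometry.Morphisms.Integral

/-!
# Closed subschemes of the generic fibre of a finite étale algebra over a normal domain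
-/

set_option autoImplicit false
universe u v w t

section
open TensorProduct

namespace K982.EtClosAlg

variable {R : Type u} [CommRing R] {K : Type u} [Field K] [Algebra R K]

/-- A smooth algebra over a normal domain is integrally closed in its generic fibre. -/
theorem exists_of_isIntegral [IsIntegrallyClosed R] [IsFractionRing R K] (E : Type u) [CommRing E] [Algebra R E]
    [Algebra.Smooth R E] (x : K ⊗[R] E) (hx : IsIntegral R x) : ∃ y : E, (1 : K) ⊗ₜ[R] y = x := by
  let c : K ⊗[R] E ≃ₐ[R] E ⊗[R] K := Algebra.TensorProduct.comm R K E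
  have h1 : IsIntegral R (c x) := hx.map c
  have h2 : IsIntegral E (c x) := h1.tower_top
  obtain ⟨z, hz⟩ := (TensorProduct.toIntegralClosure_bijective_of_smooth (R := R) (S := E) (B := K)).2 ⟨c x, h2⟩
  have h3 : ∀ z : E ⊗[R] integralClosure R K, ∃ y : E,
      ((TensorProduct.toIntegralClosure R E K z : integralClosure E (E ⊗[R] K)) : E ⊗[R] K) = y ⊗ₜ 1 := by
    intro z
    induction z using TensorProduct.induction_on with
    | zero => exact ⟨0, by simp⟩
    | add a b ha hb =>
      obtain ⟨y, hy⟩ := ha
      obtain ⟨y', hy'⟩ := hb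
      exact ⟨y + y', by rw [map_add, Subalgebra.coe_add, hy, hy', add_tmul]⟩
    | tmul a b =>
      obtain ⟨r, hr⟩ := IsIntegrallyClosed.isIntegral_iff.mp b.2
      refine ⟨r • a, ?_⟩
      change a ⊗ₜ[R] (b : K) = _
      rw [← hr, smul_tmul, Algebra.smul_def, mul_one]
  obtain ⟨y, hy⟩ := h3 z
  refine ⟨y, ?_⟩
  rw [hz] at hy
  apply c.injective
  rw [Algebra.TensorProduct.comm_tmul]
  exact hy.symm

/-- A quotient of the generic fibre of a finite étale algebra `E` over a normal domain is the generic fibre of a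
direct factor of `E`. -/
theorem exists_factor [IsIntegrallyClosed R] [IsFractionRing R K] (E : Type u) [CommRing E] [Algebra R E]
    [Algebra.Etale R E] [Module.Finite R E] (F : Type u) [CommRing F] [Algebra K F] (ϖ : K ⊗[R] E →ₐ[K] F)
    (hϖ : Function.Surjective ϖ) :
    ∃ (E' : Type u) (_ : CommRing E') (_ : Algebra R E') (π : E →ₐ[R] E') (θ : K ⊗[R] E' ≃ₐ[K] F),
      Function.Surjective π ∧ Algebra.Etale R E' ∧
        (θ : K ⊗[R] E' →ₐ[K] F).comp (Algebra.TensorProduct.map (AlgHom.id K K) π) = ϖ := by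
  have h1 : IsReduced (K ⊗[R] E) := Algebra.FormallyUnramified.isReduced_of_field K (K ⊗[R] E)
  have h2 : IsArtinianRing (K ⊗[R] E) := IsArtinianRing.of_finite K (K ⊗[R] E)
  have h3 : IsSemisimpleRing (K ⊗[R] E) := IsArtinianRing.isSemisimpleRing_of_isReduced _
  obtain ⟨e, he, hker⟩ := IsSemisimpleRing.ideal_eq_span_idempotent (RingHom.ker ϖ)
  have hint : IsIntegral R e := by
    refine ⟨Polynomial.X ^ 2 - Polynomial.X, ?_, ?_⟩
    · monicity!
    · simp [pow_two, he.eq]
  obtain ⟨e₀, he₀⟩ := exists_of_isIntegral E e hint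
  have hinj : Function.Injective (Algebra.TensorProduct.includeRight : E →ₐ[R] K ⊗[R] E) :=
    Algebra.TensorProduct.includeRight_injective (IsFractionRing.injective R K)
  have he₀' : (Algebra.TensorProduct.includeRight : E →ₐ[R] K ⊗[R] E) e₀ = e := he₀
  have hid : IsIdempotentElem e₀ := hinj (by rw [map_mul, he₀', he.eq])
  let π : E →ₐ[R] E ⧸ Ideal.span {e₀} := Ideal.Quotient.mkₐ R _
  have hπ : Function.Surjective π := Ideal.Quotient.mkₐ_surjective R _
  have hloc : IsLocalization.Away (1 - e₀) (E ⧸ Ideal.span {e₀}) :=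
    IsLocalization.away_of_isIdempotentElem hid.one_sub (by simp) Ideal.Quotient.mk_surjective
  have het : Algebra.Etale E (E ⧸ Ideal.span {e₀}) := Algebra.Etale.of_isLocalizationAway (1 - e₀)
  have het' : Algebra.Etale R (E ⧸ Ideal.span {e₀}) := Algebra.Etale.comp R E _
  let _ : Algebra R F := Algebra.compHom F (algebraMap R K)
  have : IsScalarTower R K F := IsScalarTower.of_algebraMap_eq fun _ => rfl
  let ψ : E →ₐ[R] F := (ϖ.restrictScalars R).comp Algebra.TensorProduct.includeRight
  have hψ : ∀ a ∈ Ideal.span {e₀}, ψ a = 0 := by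
    have : Ideal.span {e₀} ≤ RingHom.ker ψ := by
      rw [Ideal.span_le, Set.singleton_subset_iff]
      change ϖ (1 ⊗ₜ e₀) = 0
      rw [he₀]
      have : e ∈ RingHom.ker ϖ := hker ▸ Ideal.mem_span_singleton_self e
      exact this
    exact fun a ha => this ha
  let ψ' : E ⧸ Ideal.span {e₀} →ₐ[R] F := Ideal.Quotient.liftₐ _ ψ hψ
  let θ : K ⊗[R] (E ⧸ Ideal.span {e₀}) →ₐ[K] F :=
    Algebra.TensorProduct.lift (Algebra.ofId K F) ψ' (fun _ _ => Commute.all _ _)
  have hθ : θ.comp (Algebra.TensorProduct.map (AlgHom.id K K) π) = ϖ := by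
    apply Algebra.TensorProduct.ext
    · ext
    · ext a
      change θ (1 ⊗ₜ (Ideal.Quotient.mk _ a)) = ϖ (1 ⊗ₜ a)
      rw [Algebra.TensorProduct.lift_tmul, map_one, one_mul]
      rfl
  have hbij : Function.Bijective θ := by
    constructor
    · rw [injective_iff_map_eq_zero]
      intro x hx
      obtain ⟨y, rfl⟩ := TensorProduct.map_surjective (g := (LinearMap.id : K →ₗ[R] K)) (g' := π.toLinearMap)
        Function.surjective_id hπ x
      have h4 : ϖ y = 0 := by
        rw [← hθ]
        exact hx
      have h5 : y ∈ Ideal.span {e} := hker ▸ h4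
      obtain ⟨z, rfl⟩ := Ideal.mem_span_singleton'.1 h5
      change Algebra.TensorProduct.map (AlgHom.id R K) π (z * e) = 0
      rw [map_mul, ← he₀, Algebra.TensorProduct.map_tmul]
      have h6 : π e₀ = 0 := Ideal.Quotient.eq_zero_iff_mem.2 (Ideal.mem_span_singleton_self e₀)
      rw [h6, tmul_zero, mul_zero]
    · intro y
      obtain ⟨x, rfl⟩ := hϖ y
      exact ⟨Algebra.TensorProduct.map (AlgHom.id K K) π x, by rw [← hθ]; rfl⟩
  exact ⟨_, inferInstance, inferInstance, π, AlgEquiv.ofBijective θ hbij, hπ, het', hθ⟩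

end K982.EtClosAlg

end

/-!
# Finite étale schemes over a normal domain and their generic fibres

* `exists_spread`: closed subschemes of the generic fibre of a finite étale scheme extend to direct factors;
* `exists_ext`: morphisms from the generic fibre of an étale scheme to the generic fibre of an integral scheme extend.
-/

section
open CategoryTheory CategoryTheory.Limits AlgebraicGeometry MonoidalCategory
  CartesianMonoidalCategory MonObj GrpObj TensorProduct

namespace K982.EtClos

open Groth.Agent.Pic13.H508.QuotModel Groth.Agent.Books.AffBridge Groth.Agent.Books.AffBridge2 FFClos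

variable {R : Type u} [CommRing R] (K : Type u) [Field K] [Algebra R K]

/-- full description of morphisms between base changes of affine schemes -/
theorem exists_algHom {A D : Type u} [CommRing A] [Algebra R A] [CommRing D] [Algebra R D]
    (y : Red.bc (tt R K) (SpecOver R D) ⟶ Red.bc (tt R K) (SpecOver R A)) :
    ∃ χ : K ⊗[R] A →ₐ[K] K ⊗[R] D, y = (β R K D).hom ≫ specMap K χ ≫ (β R K A).inv := by
  refine ⟨specPreimage K ((β R K D).inv ≫ y ≫ (β R K A).hom), ?_⟩
  rw [specMap_specPreimage]
  simp

theorem map_eq {A D : Type u} [CommRing A] [Algebra R A] [CommRing D] [Algebra R D] (f : A →ₐ[R] D) :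
    (Over.pullback (tt R K)).map (specMap R f) =
      (β R K D).hom ≫ specMap K (Algebra.TensorProduct.map (AlgHom.id K K) f) ≫ (β R K A).inv := by
  have h1 : (β R K D).hom ≫ specMap K (Algebra.TensorProduct.map (AlgHom.id K K) f) =
      (Over.pullback (tt R K)).map (specMap R f) ≫ (β R K A).hom := (map_specMap_β R K f).symm
  rw [reassoc_of% h1, Iso.hom_inv_id, Category.comp_id]

variable [IsIntegrallyClosed R] [IsFractionRing R K]

theorem exists_ext (E : Type u) [CommRing E] [Algebra R E] [Algebra.Smooth R E]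
    {Y : Over (Spec (CommRingCat.of R))} [IsIntegralHom Y.hom]
    (y : Red.bc (tt R K) (SpecOver R E) ⟶ Red.bc (tt R K) Y) :
    ∃ s : SpecOver R E ⟶ Y, (Over.pullback (tt R K)).map s = y := by
  have hY : IsAffine Y.left := isAffine_of_isAffineHom Y.hom
  obtain ⟨A, _, _, ⟨e⟩⟩ := exists_alg R Y
  have hint : Algebra.IsIntegral R A := by
    have hw : e.hom.left ≫ Y.hom = Spec.map (CommRingCat.ofHom (algebraMap R A)) := Over.w e.hom
    have : IsIso e.hom.left := inferInstanceAs (IsIso ((Over.forget _).map e.hom))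
    have h1 : IsIntegralHom (Spec.map (CommRingCat.ofHom (algebraMap R A))) := by
      rw [← hw]
      exact MorphismProperty.comp_mem _ _ _ inferInstance inferInstance
    rw [IsIntegralHom.SpecMap_iff] at h1
    exact ⟨h1⟩
  obtain ⟨χ, hχ⟩ := exists_algHom K (y ≫ (Over.pullback (tt R K)).map e.inv)
  have hinj : Function.Injective (Algebra.TensorProduct.includeRight : E →ₐ[R] K ⊗[R] E) :=
    Algebra.TensorProduct.includeRight_injective (IsFractionRing.injective R K)
  have h1 : ∀ a : A, ∃ z : E, (Algebra.TensorProduct.includeRight : E →ₐ[R] K ⊗[R] E) z = χ (1 ⊗ₜ a) := by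
    intro a
    refine EtClosAlg.exists_of_isIntegral E _ ?_
    have h2 : IsIntegral R a := Algebra.IsIntegral.isIntegral a
    exact h2.map ((χ.restrictScalars R).comp (Algebra.TensorProduct.includeRight : A →ₐ[R] K ⊗[R] A))
  choose z hz using h1
  let f : A →ₐ[R] E := AlgHom.ofLinearMap
    { toFun := z
      map_add' := fun a b => hinj (by rw [hz, map_add, hz, hz, tmul_add, map_add])
      map_smul' := fun r a => hinj (by
        rw [hz, map_smul, hz, RingHom.id_apply, tmul_smul]
        exact map_smul (χ.restrictScalars R) r _) }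
    (hinj (by
      change (Algebra.TensorProduct.includeRight : E →ₐ[R] K ⊗[R] E) (z 1) = _
      rw [hz, map_one]
      exact map_one χ))
    (fun a b => hinj (by
      change (Algebra.TensorProduct.includeRight : E →ₐ[R] K ⊗[R] E) (z (a * b)) =
        (Algebra.TensorProduct.includeRight : E →ₐ[R] K ⊗[R] E) (z a * z b)
      rw [hz, map_mul, hz, hz, ← map_mul, Algebra.TensorProduct.tmul_mul_tmul, _root_.one_mul]))
  have hf : χ = Algebra.TensorProduct.map (AlgHom.id K K) f := by
    apply Algebra.TensorProduct.ext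
    · ext
    · ext a
      exact (hz a).symm
  refine ⟨specMap R f ≫ e.hom, ?_⟩
  rw [Functor.map_comp, map_eq, ← hf, ← hχ, Category.assoc, ← Functor.map_comp, Iso.inv_hom_id,
    CategoryTheory.Functor.map_id, Category.comp_id]

theorem exists_spread {Φ : Over (Spec (CommRingCat.of R))} [IsFinite Φ.hom] [Etale Φ.hom]
    {Q : Over (Spec (CommRingCat.of K))} (r : Q ⟶ Red.bc (tt R K) Φ) [IsClosedImmersion r.left] :
    ∃ (E : Type u) (_ : CommRing E) (_ : Algebra R E) (i : SpecOver R E ⟶ Φ)
      (θ : Red.bc (tt R K) (SpecOver R E) ≅ Q), Algebra.Etale R E ∧ Module.Finite R E ∧ IsClosedImmersion i.left ∧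
        θ.hom ≫ r = (Over.pullback (tt R K)).map i := by
  have hΦ : IsAffine Φ.left := isAffine_of_isAffineHom Φ.hom
  obtain ⟨E, _, _, ⟨e⟩⟩ := exists_alg R Φ
  have hw : e.hom.left ≫ Φ.hom = Spec.map (CommRingCat.ofHom (algebraMap R E)) := Over.w e.hom
  have i1 : IsIso e.hom.left := inferInstanceAs (IsIso ((Over.forget _).map e.hom))
  have i2 : IsIso e.inv.left := inferInstanceAs (IsIso ((Over.forget _).map e.inv))
  have hfin : Module.Finite R E := by
    have h1 : IsFinite (Spec.map (CommRingCat.ofHom (algebraMap R E))) := by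
      rw [← hw]
      exact MorphismProperty.comp_mem _ _ _ inferInstance inferInstance
    rw [IsFinite.SpecMap_iff] at h1
    exact RingHom.finite_algebraMap.1 h1
  have het : Algebra.Etale R E := by
    have h1 : Etale (Spec.map (CommRingCat.ofHom (algebraMap R E))) := by
      rw [← hw]
      exact MorphismProperty.comp_mem _ _ _ inferInstance inferInstance
    rw [HasRingHomProperty.Spec_iff (P := @Etale)] at h1
    exact RingHom.etale_algebraMap.1 h1
  have iK : IsFinite (Red.bc (tt R K) Φ).hom := inferInstanceAs (IsFinite (pullback.snd Φ.hom (tt R K)))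
  have iKa : IsAffine (Red.bc (tt R K) Φ).left := isAffine_of_isAffineHom (Red.bc (tt R K) Φ).hom
  have iQ : IsAffine Q.left := isAffine_of_isAffineHom r.left
  obtain ⟨F, _, _, ⟨g⟩⟩ := exists_alg K Q
  let x : SpecOver K F ⟶ SpecOver K (K ⊗[R] E) := g.hom ≫ r ≫ (Over.pullback (tt R K)).map e.inv ≫ (β R K E).hom
  let ϖ : K ⊗[R] E →ₐ[K] F := specPreimage K x
  have hx : specMap K ϖ = x := specMap_specPreimage K x
  have hϖ : Function.Surjective ϖ := by
    rw [← isClosedImmersion_specMap_iff, hx]
    have j1 : IsIso g.hom.left := inferInstanceAs (IsIso ((Over.forget _).map g.hom))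
    have j2 : IsIso ((Over.pullback (tt R K)).map e.inv ≫ (β R K E).hom).left :=
      inferInstanceAs (IsIso ((Over.forget _).map ((Over.pullback (tt R K)).map e.inv ≫ (β R K E).hom)))
    change IsClosedImmersion (g.hom.left ≫ r.left ≫ ((Over.pullback (tt R K)).map e.inv ≫ (β R K E).hom).left)
    infer_instance
  obtain ⟨E', _, _, π, θ, hπ, hE', hθ⟩ := EtClosAlg.exists_factor E F ϖ hϖ
  have hcl : IsClosedImmersion (specMap R π ≫ e.hom).left := by
    have : IsClosedImmersion (specMap R π).left := (isClosedImmersion_specMap_iff R π).2 hπ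
    rw [Over.comp_left]
    infer_instance
  let t : SpecOver K (K ⊗[R] E') ≅ SpecOver K F :=
    { hom := specMap K (θ.symm : F →ₐ[K] K ⊗[R] E')
      inv := specMap K (θ : K ⊗[R] E' →ₐ[K] F)
      hom_inv_id := by
        rw [← specMap_comp, ← specMap_id]
        congr 1
        ext x; simp
      inv_hom_id := by
        rw [← specMap_comp, ← specMap_id]
        congr 1
        ext x
        simp }
  refine ⟨E', inferInstance, inferInstance, specMap R π ≫ e.hom, β R K E' ≪≫ t ≪≫ g, hE',
    Module.Finite.of_surjective π.toLinearMap hπ, hcl, ?_⟩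
  have h1 : r = g.inv ≫ x ≫ (β R K E).inv ≫ (Over.pullback (tt R K)).map e.hom := by
    simp only [x, Category.assoc, Iso.hom_inv_id_assoc, Iso.inv_hom_id_assoc]
    rw [← Functor.map_comp, Iso.inv_hom_id, CategoryTheory.Functor.map_id, Category.comp_id]
  have h2 : t.hom ≫ x = specMap K (Algebra.TensorProduct.map (AlgHom.id K K) π) := by
    rw [← hx, ← hθ]
    change specMap K (θ.symm : F →ₐ[K] K ⊗[R] E') ≫ specMap K _ = _
    rw [specMap_comp, ← Category.assoc]
    change (t.hom ≫ t.inv) ≫ _ = _
    rw [t.hom_inv_id, Category.id_comp]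
  rw [Functor.map_comp, map_eq, h1]
  simp only [Iso.trans_hom, Category.assoc, Iso.hom_inv_id_assoc]
  rw [reassoc_of% h2]

end K982.EtClos

end
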